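import Cfsg.Agent.Lib.ChevOver.Data
import Cfsg.Agent.Lib.ChevField.Fixed

/-!
Root elements, commutators and coordinates, and the setting of a finite subgroup containing all `x_r(1)`.
-/

set_option autoImplicit false

namespace Cfsg.Agent.Lib.ChevOver

open Cfsg.Lie Cfsg.Agent.Lib.Chev Cfsg.Agent.Lib.ChevField
open scoped Matrix

variable {D : ChevalleyDatum} {C : Cert} {k : Type*} [Field k]

/-- The root element, total in the index. -/
def xg (hh : Rooted D C) (r : ℕ) (t : k) : GL D.Idx k :=
  if hr : r < D.nroots then xGL hh.toChecked k hr t else 1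

variable (hh : Rooted D C)

theorem xg_eq {r : ℕ} (hr : r < D.nroots) (t : k) : xg hh r t = xGL hh.toChecked k hr t := dif_pos hr

theorem coe_xg (r : ℕ) (t : k) : ((xg hh r t : GL D.Idx k) : Matrix D.Idx D.Idx k) = D.x k r t := by
  by_cases hr : r < D.nroots
  · rw [xg_eq hh hr]; rfl
  · rw [xg, dif_neg hr, ChevalleyDatum.x, dif_neg hr]; rfl

theorem xg_add (r : ℕ) (s t : k) : xg hh r s * xg hh r t = xg hh r (s + t) := by
  by_cases hr : r < D.nroots
  · simp only [xg_eq hh hr]; exact hh.toChecked.xGL_add hr s t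
  · simp [xg, dif_neg hr]

theorem xg_zero (r : ℕ) : xg hh r (0 : k) = 1 := by
  have h1 := xg_add hh r (0 : k) 0
  rw [add_zero] at h1
  exact mul_eq_left.1 h1

theorem xg_inv (r : ℕ) (t : k) : (xg hh r t)⁻¹ = xg hh r (-t) :=
  inv_eq_of_mul_eq_one_right (by rw [xg_add, add_neg_cancel, xg_zero])

theorem xg_mem_group (r : ℕ) (t : k) : xg hh r t ∈ D.group k := by
  by_cases hr : r < D.nroots
  · rw [xg_eq hh hr]; exact hh.toChecked.xGL_mem_group hr t
  · simp [xg, dif_neg hr]

theorem xg_injective {r : ℕ} (hr : r < D.nroots) : Function.Injective (xg (k := k) hh r) := by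
  intro s t e
  have := congrArg Units.val e
  rw [coe_xg, coe_xg] at this
  exact hh.toChecked.x_injective hr this

theorem xg_mem_pos {r : ℕ} (hr : r < D.nroots) (hp : D.nroots / 2 ≤ r) (t : k) : xg hh r t ∈ D.posUnipotent k := by
  rw [xg_eq hh hr]; exact hh.toChecked.xGL_mem_pos hr hp t

theorem glMap_xg {K : Type*} [Field K] (f : k →+* K) (r : ℕ) (t : k) :
    glMap D f (xg hh r t) = xg hh r (f t) :=
  Units.ext (by rw [coe_glMap, coe_xg, coe_xg, Twisted.x_map])

theorem coe_prod_xg (l : List (ℕ × k)) :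
    (((l.map fun p => xg hh p.1 p.2).prod : GL D.Idx k) : Matrix D.Idx D.Idx k) = D.wordMat k l := by
  induction l with
  | nil => simp [ChevalleyDatum.wordMat]
  | cons p l ih => simp [ih, coe_xg, ChevalleyDatum.wordMat]

/-- The commutator formula between root elements. -/
theorem xg_comm {r s : ℕ} (hr : r < D.nroots) (hs : s < D.nroots) (h1 : s ≠ r) (h2 : s ≠ ng D r)
    {l : List (ℕ × ℤ × ℕ × ℕ)} (hl : cTerms C r s = l) (t u : k) :
    xg hh s u * xg hh r t = xg hh r t * xg hh s u *
      (l.map fun c => xg hh c.1 ((c.2.1 : k) * (-t) ^ c.2.2.1 * u ^ c.2.2.2)).prod := by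
  refine Units.ext ?_
  have e := coe_prod_xg hh (k := k) (l.map fun c => (c.1, (c.2.1 : k) * (-t) ^ c.2.2.1 * u ^ c.2.2.2))
  rw [List.map_map] at e
  simp only [Units.val_mul, coe_xg]
  rw [show (fun c : ℕ × ℤ × ℕ × ℕ => xg hh c.1 ((c.2.1 : k) * (-t) ^ c.2.2.1 * u ^ c.2.2.2)) =
    (fun p : ℕ × k => xg hh p.1 p.2) ∘ fun c => (c.1, (c.2.1 : k) * (-t) ^ c.2.2.1 * u ^ c.2.2.2) from rfl, e,
    hh.toChecked.commutator_formula hr hs h1 h2, hh.toChecked.commWord_eq hr hs, hl]

theorem xg_commute {r s : ℕ} (hr : r < D.nroots) (hs : s < D.nroots) (h2 : s ≠ ng D r)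
    (hl : cTerms C r s = []) (t u : k) : Commute (xg hh r t) (xg hh s u) := by
  rcases eq_or_ne s r with rfl | h1
  · show _ * _ = _ * _
    rw [xg_add, xg_add, add_comm]
  · have e := xg_comm hh hr hs h1 h2 hl t u
    rw [List.map_nil, List.prod_nil, mul_one] at e
    exact e.symm

theorem xg_comm_one {r s a i j : ℕ} {M : ℤ} (hr : r < D.nroots) (hs : s < D.nroots) (h1 : s ≠ r) (h2 : s ≠ ng D r)
    (hl : cTerms C r s = [(a, M, i, j)]) (t u : k) :
    xg hh s u * xg hh r t = xg hh r t * xg hh s u * xg hh a ((M : k) * (-t) ^ i * u ^ j) := by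
  rw [xg_comm hh hr hs h1 h2 hl]; simp

/-- The torus element `h_r(c)`. -/
def hElem (D : ChevalleyDatum) (C : Cert) (r : ℕ) (c : kˣ) : GL D.Idx k := torusHom D k fun i => c ^ cor D C i r

theorem hElem_conj {r s : ℕ} (hs : s < D.nroots) (c : kˣ) (t : k) :
    hElem D C r c * xg hh s t * (hElem D C r c)⁻¹ = xg hh s (((c ^ pairI D C r s : kˣ) : k) * t) := by
  rw [xg_eq hh hs, xg_eq hh hs, hElem, hh.toChecked.conj_x hs]
  congr 2
  rw [torusFun, pairI, zsum_eq]
  generalize Finset.range D.rank = S
  induction S using Finset.induction_on with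
  | empty => simp
  | insert j S hj ih =>
    rw [Finset.prod_insert hj, Finset.sum_insert hj, zpow_add, Units.val_mul, Units.val_mul, ih, ← zpow_mul]

/-! ### Coordinates -/

/-- The coordinate coded `c` of a vector. -/
def co (v : D.Idx → k) (c : ℕ) : k := ∑ x, bv D k c x * v x

theorem co_idx (v : D.Idx → k) (x : D.Idx) : co v (idxCode D x) = v x := by
  simp [co, bv_idxCode, Pi.single_apply]

theorem co_add (v w : D.Idx → k) (c : ℕ) : co (v + w) c = co v c + co w c := by
  simp [co, mul_add, Finset.sum_add_distrib]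

theorem co_sub (v w : D.Idx → k) (c : ℕ) : co (v - w) c = co v c - co w c := by
  simp [co, mul_sub, Finset.sum_sub_distrib]

theorem co_smul (a : k) (v : D.Idx → k) (c : ℕ) : co (a • v) c = a * co v c := by
  simp only [co, Pi.smul_apply, smul_eq_mul, Finset.mul_sum]
  exact Finset.sum_congr rfl fun x _ => mul_left_comm _ _ _

theorem co_bv {y : ℕ} (hy : y < D.nroots + D.rank) (c : ℕ) :
    co (bv D k c) y = if c = y then 1 else 0 := by
  obtain ⟨x, rfl⟩ := exists_idxCode hy
  rw [co_idx]
  by_cases e : c = idxCode D x <;> simp [bv, e, eq_comm]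

theorem co_ext {v w : D.Idx → k} (h : ∀ c < D.nroots + D.rank, co v c = co w c) : v = w :=
  funext fun x => by rw [← co_idx v, ← co_idx w, h _ (idxCode_lt x)]

theorem co_mulVec (M : Matrix D.Idx D.Idx k) (v : D.Idx → k) (y : ℕ) :
    co (M *ᵥ v) y = ∑ c ∈ Finset.range (D.nroots + D.rank), co (M *ᵥ bv D k c) y * co v c := by
  let e : D.Idx → ℕ := idxCode D
  have he : Finset.univ.image e = Finset.range (D.nroots + D.rank) := by
    ext c
    simp only [Finset.mem_image, Finset.mem_univ, true_and, Finset.mem_range]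
    exact ⟨fun ⟨x, hx⟩ => hx ▸ idxCode_lt x, fun hc => exists_idxCode hc⟩
  rw [← he, Finset.sum_image (fun a _ b _ hab => idxCode_inj hab)]
  simp only [e, co_idx, mulVec_bv]
  simp only [co, Matrix.mulVec, dotProduct, Finset.mul_sum, Finset.sum_mul, mul_assoc]
  rw [Finset.sum_comm]

theorem co_evalC {y : ℕ} (hy : y < D.nroots + D.rank) (l : List (ℕ × ℤ)) :
    co (evalC D k l) y = (((l.map fun e => if e.1 = y then e.2 else 0).sum : ℤ) : k) := by
  induction l with
  | nil => simp [evalC, co]
  | cons e l ih =>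
    have h1 : evalC D k (e :: l) = (e.2 : k) • bv D k e.1 + evalC D k l := by simp [evalC]
    rw [h1, co_add, co_smul, ih, co_bv hy, List.map_cons, List.sum_cons, Int.cast_add]
    by_cases h : e.1 = y <;> simp [h]

/-- The entries of a root element. -/
theorem co_x_bv {r c y : ℕ} (hr : r < D.nroots) (hc : c < D.nroots + D.rank) (hy : y < D.nroots + D.rank) (t : k) :
    co ((xg hh r t).val *ᵥ bv D k c) y = ∑ j ∈ Finset.range 4, t ^ j * (entK D C r y c j : k) := by
  rw [coe_xg, hh.toChecked.x_mulVec_bv hr hc]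
  simp only [co, Finset.sum_apply, Finset.mul_sum]
  rw [Finset.sum_comm]
  refine Finset.sum_congr rfl fun j _ => ?_
  rw [entK, ← co_evalC (k := k) hy, ← co_smul]
  rfl

theorem co_x_one_bv {r c y : ℕ} (hr : r < D.nroots) (hc : c < D.nroots + D.rank) (hy : y < D.nroots + D.rank) :
    co ((xg hh r (1 : k)).val *ᵥ bv D k c) y = (entry1 D C r y c : k) := by
  rw [co_x_bv hh hr hc hy, entry1, zsum_eq, Int.cast_sum]
  simp

/-- A row of a product of root elements with argument one. -/
theorem co_word (w : List ℕ) (hw : ∀ a ∈ w, a < D.nroots) {y : ℕ} (hy : y < D.nroots + D.rank) (v : D.Idx → k) :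
    co ((w.map fun a => xg hh a (1 : k)).prod.val *ᵥ v) y =
      ∑ c ∈ Finset.range (D.nroots + D.rank), (rowOf D C w y c : k) * co v c := by
  induction w generalizing y with
  | nil =>
    simp only [List.map_nil, List.prod_nil, Units.val_one, Matrix.one_mulVec, rowOf]
    rw [Finset.sum_eq_single y]
    · simp
    · intro c _ hc; simp [Ne.symm hc]
    · intro hn; exact absurd (Finset.mem_range.2 hy) hn
  | cons a w ih =>
    rw [List.map_cons, List.prod_cons, Units.val_mul, ← Matrix.mulVec_mulVec, co_mulVec]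
    have ha := hw a List.mem_cons_self
    rw [Finset.sum_congr rfl fun z hz => by
      rw [co_x_one_bv hh ha (Finset.mem_range.1 hz) hy,
        ih (fun b hb => hw b (List.mem_cons_of_mem _ hb)) (Finset.mem_range.1 hz), Finset.mul_sum]]
    rw [Finset.sum_comm]
    refine Finset.sum_congr rfl fun c _ => ?_
    rw [rowOf, zsum_eq, Int.cast_sum, Finset.sum_mul]
    refine Finset.sum_congr rfl fun z _ => ?_
    by_cases h0 : entry1 D C a y z = 0 <;> simp [h0, mul_assoc]

/-! ### The setting -/

/-- A finite subgroup of a Chevalley group containing every `x_r(1)`. -/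
structure Ctx (D : ChevalleyDatum) (C : Cert) (S : SubCert) (k : Type*) [Field k] where
  hh : Rooted D C
  etaOK : Twisted.chkEtaSigns D C = true
  ok : SubOK D C S
  H : Subgroup (GL D.Idx k)
  finite : Finite ↥H
  le : H ≤ D.group k
  ones : ∀ r < D.nroots, xg hh r (1 : k) ∈ H

namespace Ctx

variable {S : SubCert} (X : Ctx D C S k)
include X

theorem nroots_pos : 0 < D.nroots := by
  have := X.hh.toChecked.rank_pos
  have := X.hh.toChecked.simple_lt this
  omega

theorem top_lt : top D < D.nroots := by
  have := X.nroots_pos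
  unfold top; omega

theorem half_le_top : D.nroots / 2 ≤ top D := by unfold top; omega

theorem ng_top : ng D (top D) = 0 := by unfold ng top; omega

theorem ng_zero : ng D 0 = top D := by unfold ng top; omega

theorem top_ne_zero : top D ≠ 0 := by
  have := X.hh.toChecked.ng_ne X.top_lt
  rw [X.ng_top] at this
  exact this.symm

theorem nS_mem {i : ℕ} (hi : i < D.rank) : nS X.hh.toChecked k i ∈ X.H := by
  have hp := X.hh.toChecked.simple_lt hi
  have e : nS X.hh.toChecked k i =
      xg X.hh (D.simple i) 1 * xg X.hh (ng D (D.simple i)) (-1) * xg X.hh (D.simple i) 1 := by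
    refine Units.ext ?_
    simp [coe_nS _ hi, ChevalleyDatum.nMat, ChevalleyDatum.nWord, ChevalleyDatum.wordMat, coe_xg,
      X.hh.toChecked.neg_eq hp, mul_assoc]
  rw [e]
  refine mul_mem (mul_mem (X.ones _ hp) ?_) (X.ones _ hp)
  rw [← xg_inv]
  exact inv_mem (X.ones _ (Checked.ng_lt hp))

theorem nS_conj {i r : ℕ} (hi : i < D.rank) (hr : r < D.nroots) (t : k) :
    nS X.hh.toChecked k i * xg X.hh r t * (nS X.hh.toChecked k i)⁻¹ =
      xg X.hh (refl C i r) ((eta C i r : k) * t) := by
  rw [xg_eq _ hr, xg_eq _ (X.hh.toChecked.refl_lt hi hr), X.hh.toChecked.nS_conj_x hi hr, mul_inv_cancel_right]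

theorem xg_neg_mem {r : ℕ} {t : k} : xg X.hh r (-t) ∈ X.H ↔ xg X.hh r t ∈ X.H := by
  rw [← xg_inv, inv_mem_iff]

theorem refl_mem_iff {i r : ℕ} (hi : i < D.rank) (hr : r < D.nroots) (t : k) :
    xg X.hh (refl C i r) t ∈ X.H ↔ xg X.hh r t ∈ X.H := by
  have e := X.nS_conj hi hr t
  have h2 : xg X.hh r t ∈ X.H ↔ xg X.hh (refl C i r) ((eta C i r : k) * t) ∈ X.H := by
    rw [← e]
    exact ⟨fun h => mul_mem (mul_mem (X.nS_mem hi) h) (inv_mem (X.nS_mem hi)), fun h => by
      have := mul_mem (mul_mem (inv_mem (X.nS_mem hi)) h) (X.nS_mem hi)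
      simpa [mul_assoc] using this⟩
  rw [h2]
  rcases eta_cases (C := C) i r with w | w <;> simp [w, X.xg_neg_mem]

theorem long_refl {i r : ℕ} (hi : i < D.rank) (hr : r < D.nroots) :
    isLong D C (refl C i r) = isLong D C r := by
  have := X.ok.long_ok
  simp only [chkLong, Bool.and_eq_true, allN_iff] at this
  by_cases h0 : Nat.beq S.short0 0 = true
  · simp only [h0, cond_true, allN_iff] at this
    rw [this.1 _ hr, this.1 _ (X.hh.toChecked.refl_lt hi hr)]
  · simp only [Bool.not_eq_true] at h0
    simp only [h0, cond_false, Bool.and_eq_true, allN_iff, beq_iff_eq] at this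
    exact this.1.2 r hr i hi

theorem long_zero : isLong D C 0 = true := by
  have := X.ok.long_ok
  simp only [chkLong, Bool.and_eq_true] at this
  by_cases h0 : Nat.beq S.short0 0 = true
  · simp only [h0, cond_true, allN_iff] at this
    exact this.1 0 X.nroots_pos
  · simp only [Bool.not_eq_true] at h0
    simp only [h0, cond_false, Bool.and_eq_true] at this
    exact this.1.1.1.1.1

theorem long_top : isLong D C (top D) = true := by
  have := X.ok.long_ok
  simp only [chkLong, Bool.and_eq_true] at this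
  by_cases h0 : Nat.beq S.short0 0 = true
  · simp only [h0, cond_true, allN_iff] at this
    exact this.1 _ X.top_lt
  · simp only [Bool.not_eq_true] at h0
    simp only [h0, cond_false, Bool.and_eq_true] at this
    exact this.1.1.1.1.2

theorem short0_short {r : ℕ} (hr : r < D.nroots) (hs : isLong D C r = false) :
    S.short0 ≠ 0 ∧ S.short0 < D.nroots ∧ isLong D C S.short0 = false := by
  have := X.ok.long_ok
  simp only [chkLong, Bool.and_eq_true] at this
  by_cases h0 : Nat.beq S.short0 0 = true
  · simp only [h0, cond_true, allN_iff] at this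
    rw [this.1 r hr] at hs; exact absurd hs (by simp)
  · simp only [Bool.not_eq_true] at h0
    simp only [h0, cond_false, Bool.and_eq_true, Bool.not_eq_true', Nat.blt_eq] at this
    exact ⟨fun e => by simp [e] at h0, this.1.1.1.2, this.1.1.2⟩

/-- The lowest root of the length of `r`. -/
theorem exists_lower {r : ℕ} (hr : r < D.nroots) (h0 : r ≠ if isLong D C r then 0 else S.short0) :
    ∃ i < D.rank, refl C i r < r := by
  have := X.ok.long_ok
  simp only [chkLong, Bool.and_eq_true, allN_iff, Bool.or_eq_true, natBeq_eq, decide_eq_true_eq, List.any_eq_true,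
    List.mem_range, Nat.blt_eq] at this
  rcases this.2 r hr with (e | e) | e
  · subst e; simp [X.long_zero] at h0
  · subst e
    by_cases hl : isLong D C S.short0 = true
    · rw [if_pos hl] at h0
      have := X.ok.long_ok
      simp only [chkLong, Bool.and_eq_true] at this
      have hb : Nat.beq S.short0 0 = false := by simp [natBeq_eq, h0]
      simp only [hb, cond_false, Bool.and_eq_true, hl] at this
      simp at this
    · rw [if_neg hl] at h0; exact absurd rfl h0
  · exact e

theorem mem_iff_lowest : ∀ (r : ℕ), r < D.nroots → ∀ t : k,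
    (xg X.hh r t ∈ X.H ↔ xg X.hh (if isLong D C r then 0 else S.short0) t ∈ X.H) := by
  intro r
  induction r using Nat.strong_induction_on with
  | _ r ih =>
    intro hr t
    by_cases h0 : r = if isLong D C r then 0 else S.short0
    · rw [← h0]
    · obtain ⟨i, hi, hlt⟩ := X.exists_lower hr h0
      rw [← X.refl_mem_iff hi hr, ih _ hlt (X.hh.toChecked.refl_lt hi hr), X.long_refl hi hr]

theorem xg_mem_congr {r s : ℕ} (hr : r < D.nroots) (hs : s < D.nroots) (e : isLong D C r = isLong D C s) (t : k) :
    xg X.hh r t ∈ X.H ↔ xg X.hh s t ∈ X.H := by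
  rw [X.mem_iff_lowest r hr, X.mem_iff_lowest s hs, e]

/-- The arguments of the long root elements in `H`. -/
def A : AddSubgroup k where
  carrier := {t | xg X.hh (top D) t ∈ X.H}
  zero_mem' := by show xg X.hh (top D) (0 : k) ∈ X.H; rw [xg_zero]; exact one_mem _
  add_mem' {a b} ha hb := by show xg X.hh (top D) (a + b) ∈ X.H; rw [← xg_add]; exact mul_mem ha hb
  neg_mem' {a} ha := X.xg_neg_mem.2 ha

theorem mem_A {t : k} : t ∈ X.A ↔ xg X.hh (top D) t ∈ X.H := Iff.rfl

theorem long_mem_iff {r : ℕ} (hr : r < D.nroots) (hl : isLong D C r = true) {t : k} :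
    xg X.hh r t ∈ X.H ↔ t ∈ X.A := by
  rw [X.mem_A]; exact X.xg_mem_congr hr X.top_lt (by rw [hl, X.long_top]) t

theorem one_mem_A : (1 : k) ∈ X.A := X.mem_A.2 (X.ones _ X.top_lt)

theorem finite_A : (X.A : Set k).Finite := by
  haveI := X.finite
  refine Set.Finite.of_finite_image (f := fun t => xg X.hh (top D) t) ?_ (xg_injective _ X.top_lt).injOn
  exact (Set.toFinite (X.H : Set (GL D.Idx k))).subset (by rintro _ ⟨t, ht, rfl⟩; exact ht)

/-- `A` as a subfield, once it is closed under multiplication. -/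
def field (hmul : ∀ a ∈ X.A, ∀ b ∈ X.A, a * b ∈ X.A) : Subfield k where
  carrier := X.A
  zero_mem' := X.A.zero_mem
  add_mem' := X.A.add_mem
  neg_mem' := X.A.neg_mem
  one_mem' := X.one_mem_A
  mul_mem' {a b} ha hb := hmul a ha b hb
  inv_mem' a ha := by
    by_cases h0 : a = 0
    · simp [h0]
    haveI : Finite ↥X.A := X.finite_A.to_subtype
    have hinj : Function.Injective (fun b : ↥X.A => (⟨a * b.1, hmul a ha _ b.2⟩ : ↥X.A)) := fun b c e =>
      Subtype.ext (mul_left_cancel₀ h0 (congrArg Subtype.val e))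
    obtain ⟨b, hb⟩ := Finite.surjective_of_injective hinj ⟨1, X.one_mem_A⟩
    rw [inv_eq_of_mul_eq_one_right (congrArg Subtype.val hb)]
    exact b.2

/-! ### The first column of an element -/

theorem pos_fix_top {u : GL D.Idx k} (hu : u ∈ D.posUnipotent k) : u.val *ᵥ bv D k (top D) = bv D k (top D) := by
  have h := X.hh.toChecked
  have hm := h.two_mul_half
  have hT := X.top_lt
  obtain ⟨x, hx⟩ := exists_idxCode (D := D) (c := top D) (by omega)
  rw [← hx, mulVec_bv, bv_idxCode]
  funext y
  have hz : (u.val - 1) y x = 0 := by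
    by_contra hne
    have h1 := h.raises_of_mem_posUnipotent hu y x hne
    have h2 := (level_range (D := D) y).2
    rcases x with i | s
    · simp [idxCode] at hx; omega
    · simp only [idxCode] at hx
      have h3 := X.half_le_top
      have hlev : level D (Sum.inr s) = (s.val : ℤ) + 1 := by
        simp only [level]; rw [if_neg (by omega)]
      rw [hlev] at h1
      unfold top at hx
      omega
  rw [Matrix.sub_apply, sub_eq_zero] at hz
  simp [hz, Matrix.one_apply, Pi.single_apply]

theorem pos_row_zero {u : GL D.Idx k} (hu : u ∈ D.posUnipotent k) (v : D.Idx → k) :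
    co (u.val *ᵥ v) 0 = co v 0 := by
  have h := X.hh.toChecked
  obtain ⟨y, hy⟩ := exists_idxCode (D := D) (c := 0) (by have := X.nroots_pos; omega)
  have hrow : ∀ x, u.val y x = (1 : Matrix D.Idx D.Idx k) y x := by
    intro x
    by_contra hne
    have h1 := h.raises_of_mem_posUnipotent hu y x (by rw [Matrix.sub_apply, sub_ne_zero]; exact hne)
    have h2 := (level_range (D := D) x).1
    rcases y with i | s
    · simp [idxCode] at hy; have := X.nroots_pos; omega
    · simp only [idxCode] at hy
      have h3 : 0 < D.nroots / 2 := by have := h.two_mul_half; have := X.nroots_pos; omega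
      have hlev : level D (Sum.inr s) = (s.val : ℤ) := by
        simp only [level]; rw [if_pos (by omega)]
      rw [hlev] at h1
      omega
  rw [← hy, co_idx, co_idx]
  simp [Matrix.mulVec, dotProduct, hrow, Matrix.one_apply]

theorem pos_commute_top {u : GL D.Idx k} (hu : u ∈ D.posUnipotent k) (t : k) :
    Commute u (xg X.hh (top D) t) := by
  rw [X.hh.toChecked.posUnipotent_eq] at hu
  induction hu using Subgroup.closure_induction with
  | mem u hu =>
    obtain ⟨r, s, hr, e⟩ := hu
    rw [show u = xg X.hh r s from Units.ext (by rw [coe_xg]; exact e)]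
    have hb := X.ok.height_ok
    simp only [chkHeight, Bool.and_eq_true, allN_iff, Bool.or_eq_true, natBeq_eq, decide_eq_true_eq,
      List.isEmpty_iff] at hb
    have h2 := X.hh.toChecked.two_mul_half
    have := (hb.2 (r - D.nroots / 2) (by have := hr.1; have := hr.2; omega)).1.1
    rw [show D.nroots / 2 + (r - D.nroots / 2) = r by have := hr.1; omega] at this
    rcases this with e' | e'
    · subst e'
      show _ * _ = _ * _
      rw [xg_add, xg_add, add_comm]
    · refine xg_commute _ hr.2 X.top_lt (fun e1 => ?_) e' s t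
      have h3 : D.nroots / 2 ≤ r := hr.1
      have h4 := X.half_le_top
      have h5 := X.nroots_pos
      rw [e1] at h4
      unfold ng at h4
      omega
  | one => exact Commute.one_left _
  | mul a b _ _ ha hb => exact ha.mul_left hb
  | inv a _ ha => exact ha.inv_left

/-- The image of the highest root element and of its vector. -/
theorem col_top {g : GL D.Idx k} (hg : g ∈ D.group k) :
    ∃ u ∈ D.posUnipotent k, ∃ β, β < D.nroots ∧ isLong D C β = true ∧ ∃ χ : k, χ ≠ 0 ∧
      (∀ t, g * xg X.hh (top D) t * g⁻¹ = u * xg X.hh β (χ * t) * u⁻¹) ∧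
      g.val *ᵥ bv D k (top D) = χ • (u.val *ᵥ bv D k β) := by
  have h := X.hh.toChecked
  obtain ⟨L, hL, b, hb, u', hu', rfl⟩ := X.hh.exists_canonical hg
  obtain ⟨u, hu, t, ht, rfl⟩ := X.hh.mem_borel_iff.1 hb
  rw [X.hh.diagonalSubgroup_eq] at ht
  obtain ⟨c, rfl⟩ := ht
  have hu'' : u' ∈ D.posUnipotent k := by
    rw [h.posUnipotent_eq]; exact rootGen_mono (h.invSet_subset L) hu'
  set n := nProd X.hh.toChecked k L with hn
  set β := perm C L (top D) with hβ
  have hβlt : β < D.nroots := h.perm_lt hL X.top_lt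
  have hlong : ∀ M, IsWord D M → isLong D C (perm C M (top D)) = true := by
    intro M hM
    induction M with
    | nil => exact X.long_top
    | cons i M ih =>
      rw [perm_cons, X.long_refl hM.cons.1 (h.perm_lt hM.cons.2 X.top_lt)]
      exact ih hM.cons.2
  have hw : ((weta C L (top D) : ℤ) : k) ≠ 0 := by
    rcases weta_cases (C := C) L (top D) with w | w <;> simp [w]
  refine ⟨u, hu, β, hβlt, hlong L hL, (torusFun D c β : k) * (weta C L (top D) : k),
    mul_ne_zero (Units.ne_zero _) hw, fun s => ?_, ?_⟩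
  · have e1 : n * xg X.hh (top D) s * n⁻¹ = xg X.hh β ((weta C L (top D) : k) * s) := by
      rw [mul_inv_eq_iff_eq_mul]
      refine Units.ext ?_
      rw [Units.val_mul, Units.val_mul, coe_xg, coe_xg]
      exact h.nProd_mul_x hL X.top_lt s
    have e2 : torusHom D k c * xg X.hh β ((weta C L (top D) : k) * s) * (torusHom D k c)⁻¹ =
        xg X.hh β ((torusFun D c β : k) * (weta C L (top D) : k) * s) := by
      rw [xg_eq _ hβlt, xg_eq _ hβlt, h.conj_x hβlt, mul_assoc]
    calc u * torusHom D k c * n * u' * xg X.hh (top D) s * (u * torusHom D k c * n * u')⁻¹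
        = u * (torusHom D k c * (n * (u' * xg X.hh (top D) s * u'⁻¹) * n⁻¹) * (torusHom D k c)⁻¹) * u⁻¹ := by
          group
      _ = _ := by rw [(X.pos_commute_top hu'' s).eq, mul_inv_cancel_right, e1, e2]
  · simp only [Units.val_mul, ← Matrix.mulVec_mulVec]
    rw [X.pos_fix_top hu'', h.nProd_bv hL X.top_lt, Matrix.mulVec_smul, coe_torusHom,
      charDiag_mulVec_root _ hβlt, Matrix.mulVec_smul, Matrix.mulVec_smul, smul_smul, mul_comm]

theorem co_nS {i r : ℕ} (hi : i < D.rank) (hr : r < D.nroots) (v : D.Idx → k) :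
    co ((nS X.hh.toChecked k i).val *ᵥ v) (refl C i r) = (eta C i r : k) * co v r := by
  have h := X.hh.toChecked
  have hr' := h.refl_lt hi hr
  rw [co_mulVec, Finset.sum_eq_single r]
  · rw [coe_nS _ hi, h.nMat_bv_root hi hr, co_smul, co_bv (by omega), if_pos rfl, mul_one]
  · intro c hc hne
    rw [coe_nS _ hi]
    by_cases hc' : c < D.nroots
    · rw [h.nMat_bv_root hi hc', co_smul, co_bv (by omega), if_neg (fun e => hne (h.refl_inj hi hc' hr e)),
        mul_zero, zero_mul]
    · obtain ⟨j, rfl⟩ := Nat.exists_eq_add_of_le (Nat.le_of_not_lt hc')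
      rw [h.nMat_bv_h hi (by have := Finset.mem_range.1 hc; omega), co_sub, co_smul, co_bv (by omega),
        co_bv (by omega), if_neg (by omega), if_neg (by omega)]
      simp
  · intro hn; exact absurd (Finset.mem_range.2 (by omega)) hn

/-- Long coordinates of first columns reduce to the lowest one. -/
theorem long_coord_mem (hlow : ∀ g ∈ X.H, co (g.val *ᵥ bv D k (top D)) 0 ∈ X.A) :
    ∀ r, r < D.nroots → isLong D C r = true → ∀ g ∈ X.H, co (g.val *ᵥ bv D k (top D)) r ∈ X.A := by
  intro r
  induction r using Nat.strong_induction_on with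
  | _ r ih =>
    intro hr hl g hg
    by_cases h0 : r = 0
    · subst h0; exact hlow g hg
    · obtain ⟨i, hi, hlt⟩ := X.exists_lower hr (by rw [if_pos hl]; exact h0)
      have := ih _ hlt (X.hh.toChecked.refl_lt hi hr) (by rw [X.long_refl hi hr, hl]) _
        (mul_mem (X.nS_mem hi) hg)
      rw [Units.val_mul, ← Matrix.mulVec_mulVec, X.co_nS hi hr] at this
      rcases eta_cases (C := C) i r with w | w
      · simpa [w] using this
      · simp only [w, Int.cast_neg, Int.cast_one, neg_mul, one_mul] at this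
        simpa using X.A.neg_mem this

end Ctx

end Cfsg.Agent.Lib.ChevOver
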