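import Cfsg.Agent.Lib.Chev.SL2Hom
import Cfsg.Agent.Lib.Chev.Perfect

/-!
Certificates on the seven tabulated data used for finite subgroups containing the group over a finite field.
-/

set_option autoImplicit false

namespace Cfsg.Agent.Lib.ChevOver

open Cfsg.Lie Cfsg.Agent.Lib.Chev

variable (D : ChevalleyDatum) (C : Cert)

/-- The highest root. -/
def top : ℕ := D.nroots - 1

/-- The root is long: all its chains have length at most one. -/
def isLong (r : ℕ) : Bool := allN D.nroots fun s => Nat.ble (cE C r s).length 1

/-- `2(r,s)/(r,r)`, evaluated. -/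
def pairI (r s : ℕ) : ℤ := zsum (fun i => cor D C i r * D.cartan i s) D.rank

/-- The positive roots not orthogonal to the highest root. -/
def qIn (r : ℕ) : Bool := Nat.ble (D.nroots / 2) r && !decide (pairI D C (top D) r = 0)

/-- The coefficient of `t ^ k` in an entry of `x_r(t)`. -/
def entK (r y c k : ℕ) : ℤ := ((eCol D C r c k).map fun e => if e.1 = y then e.2 else 0).sum

/-- An entry of `x_r(1)`. -/
def entry1 (r y c : ℕ) : ℤ := zsum (fun k => entK D C r y c k) 4

/-- An entry of a product of root elements with argument one. -/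
def rowOf : List ℕ → ℕ → ℕ → ℤ
  | [], y, c => if y = c then 1 else 0
  | a :: w, y, c =>
    zsum (fun z => if entry1 D C a y z = 0 then 0 else entry1 D C a y z * rowOf w z c) (D.nroots + D.rank)

/-- The commutator of two root elements is `x_T(M t u)`, or trivial. -/
def centralTerms (l : List (ℕ × ℤ × ℕ × ℕ)) : Bool :=
  match l with
  | [] => true
  | [(k, _, 1, 1)] => Nat.beq k (top D)
  | _ => false

/-- Tables for one datum. -/
structure SubCert where
  /-- the lowest short root (`0` if there is none) -/
  short0 : ℕ
  /-- the prime of the special characteristic (`1` if there is none) -/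
  e : ℕ
  /-- how each short coordinate is read off long coordinates -/
  sol : List (ℕ × List (ℤ × List ℕ × ℕ))
  /-- roots of weight one paired with the highest root -/
  wOne : List ℕ

variable (S : SubCert)

/-- Either every root is long, or the checks on long and short roots hold. -/
def chkLong : Bool :=
  (bif Nat.beq S.short0 0 then allN D.nroots (isLong D C)
   else isLong D C 0 && isLong D C (top D) && Nat.blt S.short0 D.nroots && !isLong D C S.short0 &&
    allN D.nroots fun r => allN D.rank fun i => isLong D C (refl C i r) == isLong D C r) &&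
    allN D.nroots fun r =>
      Nat.beq r 0 || Nat.beq r S.short0 || (List.range D.rank).any fun i => Nat.blt (refl C i r) r

def chkHeight : Bool :=
  qIn D C (top D) && allN (D.nroots / 2) fun j =>
    let r := D.nroots / 2 + j
    (Nat.beq r (top D) || (cTerms C r (top D)).isEmpty) &&
      (qIn D C r || (!Nat.beq r (top D) && (cTerms C r 0).isEmpty)) &&
      (!qIn D C r || S.wOne.all fun w => Nat.beq r w || (!Nat.beq r (ng D w) && centralTerms D (cTerms C r w)))

def chkWOne : Bool := S.wOne.all fun w => Nat.blt w (top D) && qIn D C w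

def chkSol : Bool :=
  Nat.beq S.short0 0 || allN D.nroots fun r => isLong D C r || S.sol.any fun p =>
    Nat.beq p.1 r &&
      p.2.all (fun x => Nat.blt x.2.2 D.nroots && isLong D C x.2.2 && x.2.1.all fun a => Nat.blt a D.nroots) &&
      allN (D.nroots + D.rank) fun c =>
        (Nat.blt c D.nroots && isLong D C c) ||
          Nat.beq ((p.2.map fun x => x.1 * rowOf D C x.2.1 x.2.2 c).sum).natAbs (if c = r then S.e else 0)

def chkSpecial : Bool :=
  bif Nat.beq S.short0 0 then Nat.beq S.e 1 else allN D.nroots fun c => isLong D C c ||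
    ((allN D.nroots fun r => allN 3 fun k => (eCol D C r c (k + 1)).all fun e =>
        Nat.ble D.nroots e.1 || !isLong D C e.1 || decide (e.2 % (S.e : ℤ) = 0)) &&
      allN D.nroots fun a => !isLong D C a || decide (pairI D C c a % (S.e : ℤ) = 0))

def chkOdd : Bool :=
  Nat.beq S.short0 0 || allN D.nroots fun c => isLong D C c ||
    (List.range D.nroots).any fun s => isLong D C s && Nat.beq (pairI D C s c).natAbs 1

/-- All the checks. -/
structure SubOK : Prop where
  long_ok : chkLong D C S = true
  height_ok : chkHeight D C S = true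
  wOne_ok : chkWOne D C S = true
  sol_ok : chkSol D C S = true
  special_ok : chkSpecial D C S = true
  odd_ok : chkOdd D C S = true

/-- The weight-one roots used when there are two orthogonal long pairs. -/
def chkPair (g d d' : ℕ) (M : ℤ) : Bool :=
  Nat.blt g (top D) && Nat.blt d (top D) && Nat.blt d' (top D) &&
    decide (cTerms C g (ng D 1) = [(top D, 1, 1, 1)]) &&
    decide (cTerms C g 0 = [(1, -1, 1, 1)]) &&
    decide (cTerms C (top D) 1 = [(g, 1, 1, 1)]) &&
    decide (cTerms C d d' = [(top D, M, 1, 1)]) && decide (M % 2 = 1) &&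
    (cTerms C g d).isEmpty && (cTerms C g d').isEmpty && (cTerms C 1 d).isEmpty &&
    (cTerms C 1 g).isEmpty && (cTerms C 1 0).isEmpty &&
    isLong D C g && isLong D C (ng D 1) && decide (pairI D C (top D) g = 1) && decide (pairI D C (top D) d = 1) &&
    !Nat.beq g 0 && !Nat.beq g 1 && !Nat.beq d 1 && !Nat.beq d g && !Nat.beq d' g && !Nat.beq d d' &&
    !Nat.beq g (ng D 1) && !Nat.beq d (ng D d') && !Nat.beq d (ng D g) && !Nat.beq d' (ng D g) &&
    !Nat.beq d (ng D 1)

def noSub (w : List ℕ) : SubCert where
  short0 := 0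
  e := 1
  sol := []
  wOne := w

def subB2 : SubCert where
  short0 := 1
  e := 2
  sol := [(1, [(1, [2], 0)]), (2, [(1, [1], 0)]), (5, [(1, [1], 3)]), (6, [(1, [2], 4)])]
  wOne := [5, 6]

def subF4 : SubCert where
  short0 := 3
  e := 2
  sol := [(3, [(1, [18], 0)]), (7, [(1, [11], 0)]), (8, [(1, [9], 0)]), (9, [(1, [8], 0)]), (10, [(1, [8], 1)]), (11, [(1, [7], 0)]), (12, [(1, [7], 1)]), (13, [(1, [7], 2)]), (14, [(1, [8], 4)]), (18, [(1, [3], 0)]), (19, [(1, [3], 1)]), (20, [(1, [3], 2)]), (27, [(1, [3], 4)]), (28, [(1, [3], 5)]), (29, [(1, [3], 6)]), (33, [(1, [8], 15)]), (34, [(1, [7], 15)]), (35, [(1, [7], 16)]), (36, [(1, [7], 17)]), (37, [(1, [8], 21)]), (38, [(1, [8], 22)]), (39, [(1, [9], 25)]), (40, [(1, [11], 30)]), (44, [(1, [18], 41)])]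
  wOne := [24, 46, 26, 45]

def subG2 : SubCert where
  short0 := 2
  e := 3
  sol := [(2, [(1, [0], 0), (1, [2], 1), (1, [9, 11], 11)]), (3, [(1, [0], 0), (1, [3], 5), (1, [8, 11], 11)]), (4, [(1, [1], 1), (-1, [4], 6), (1, [4, 10], 6)]), (7, [(1, [1], 1), (1, [4], 1), (1, [7, 1], 5)]), (8, [(1, [0], 0), (1, [3], 0), (1, [11, 3], 11)]), (9, [(1, [0], 0), (1, [2], 0), (1, [8, 11], 11)])]
  wOne := [6, 10, 8, 9]


theorem subOK_G2 : SubOK chevG2 G2.cert subG2 :=
  ⟨by decide +kernel, by decide +kernel, by decide +kernel, by decide +kernel, by decide +kernel, by decide +kernel⟩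

theorem subOK_B2 : SubOK chevB2 B2.cert subB2 :=
  ⟨by decide +kernel, by decide +kernel, by decide +kernel, by decide +kernel, by decide +kernel, by decide +kernel⟩

theorem subOK_F4 : SubOK chevF4 F4.cert subF4 :=
  ⟨by decide +kernel, by decide +kernel, by decide +kernel, by decide +kernel, by decide +kernel, by decide +kernel⟩

theorem subOK_D4 : SubOK chevD4 D4.cert (noSub [14, 22, 15, 21]) :=
  ⟨by decide +kernel, by decide +kernel, by decide +kernel, by decide +kernel, by decide +kernel, by decide +kernel⟩

theorem subOK_E6 : SubOK chevE6 E6.cert (noSub [46, 70, 47, 69]) :=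
  ⟨by decide +kernel, by decide +kernel, by decide +kernel, by decide +kernel, by decide +kernel, by decide +kernel⟩

theorem subOK_E7 : SubOK chevE7 E7.cert (noSub [93, 124, 94, 123]) :=
  ⟨by decide +kernel, by decide +kernel, by decide +kernel, by decide +kernel, by decide +kernel, by decide +kernel⟩

theorem subOK_E8 : SubOK chevE8 E8.cert (noSub [120, 238, 122, 237]) :=
  ⟨by decide +kernel, by decide +kernel, by decide +kernel, by decide +kernel, by decide +kernel, by decide +kernel⟩

theorem pair_G2 : chkPair chevG2 G2.cert 6 8 9 (3) = true := by decide +kernel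

theorem pair_D4 : chkPair chevD4 D4.cert 14 15 21 (-1) = true := by decide +kernel

theorem pair_F4 : chkPair chevF4 F4.cert 24 26 45 (1) = true := by decide +kernel

theorem pair_E6 : chkPair chevE6 E6.cert 46 47 69 (-1) = true := by decide +kernel

theorem pair_E7 : chkPair chevE7 E7.cert 93 94 123 (-1) = true := by decide +kernel

theorem pair_E8 : chkPair chevE8 E8.cert 120 122 237 (1) = true := by decide +kernel

end Cfsg.Agent.Lib.ChevOver
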