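import Cfsg.Agent.Lib.ChevOver.Basic

/-!
The arguments of the long root elements form a field, and carry the short root elements as well.
-/

set_option autoImplicit false

namespace Cfsg.Agent.Lib.ChevOver

open Cfsg.Lie Cfsg.Agent.Lib.Chev Cfsg.Agent.Lib.ChevField
open scoped Matrix

variable {D : ChevalleyDatum} {C : Cert} {S : SubCert} {k : Type*} [Field k]

/-- What the check on two orthogonal pairs of long roots gives. -/
structure PairOK (D : ChevalleyDatum) (C : Cert) (g d d' : ℕ) (M : ℤ) : Prop where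
  g_lt : g < top D
  d_lt : d < top D
  d'_lt : d' < top D
  gg' : cTerms C g (ng D 1) = [(top D, 1, 1, 1)]
  g0 : cTerms C g 0 = [(1, -1, 1, 1)]
  T1 : cTerms C (top D) 1 = [(g, 1, 1, 1)]
  dd' : cTerms C d d' = [(top D, M, 1, 1)]
  odd : M % 2 = 1
  gd : cTerms C g d = []
  gd' : cTerms C g d' = []
  one_d : cTerms C 1 d = []
  one_g : cTerms C 1 g = []
  one_zero : cTerms C 1 0 = []
  g_long : isLong D C g = true
  g'_long : isLong D C (ng D 1) = true
  pg : pairI D C (top D) g = 1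
  pd : pairI D C (top D) d = 1
  g_ne : g ≠ 0 ∧ g ≠ 1 ∧ g ≠ ng D 1
  d_ne : d ≠ 1 ∧ d ≠ g ∧ d ≠ ng D d' ∧ d ≠ ng D g ∧ d ≠ ng D 1
  d'_ne : d' ≠ g ∧ d ≠ d' ∧ d' ≠ ng D g

theorem pairOK_of_chk {g d d' : ℕ} {M : ℤ} (h : chkPair D C g d d' M = true) : PairOK D C g d d' M := by
  simp only [chkPair, Bool.and_eq_true, decide_eq_true_eq, List.isEmpty_iff, Bool.not_eq_true',
    Nat.blt_eq] at h
  obtain ⟨⟨⟨⟨⟨⟨⟨⟨⟨⟨⟨⟨⟨⟨⟨⟨⟨⟨⟨⟨⟨⟨⟨⟨⟨⟨⟨h1, h2⟩, h3⟩, h4⟩, h5⟩, h6⟩, h7⟩, h8⟩, h9⟩, h10⟩, h11⟩, h12⟩,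
    h13⟩, h14⟩, h15⟩, h16⟩, h17⟩, h18⟩, h19⟩, h20⟩, h21⟩, h22⟩, h23⟩, h24⟩, h25⟩, h26⟩, h27⟩, h28⟩ := h
  have nb : ∀ {a b : ℕ}, Nat.beq a b = false → a ≠ b := fun e e' => by simp [e'] at e
  exact ⟨h1, h2, h3, h4, h5, h6, h7, h8, h9, h10, h11, h12, h13, h14, h15, h16, h17,
    ⟨nb h18, nb h19, nb h24⟩, ⟨nb h20, nb h21, nb h25, nb h26, nb h28⟩, ⟨nb h22, nb h23, nb h27⟩⟩

namespace Ctx

variable (X : Ctx D C S k)
include X

theorem finite_surj {f : k → k} (hf : Set.InjOn f (X.A : Set k)) (hm : ∀ a ∈ X.A, f a ∈ X.A) {b : k} (hb : b ∈ X.A) :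
    ∃ a ∈ X.A, f a = b :=
  ((Set.Finite.injOn_iff_bijOn_of_mapsTo X.finite_A hm).1 hf).surjOn hb

theorem mul_closed_pair {g d d' : ℕ} {M : ℤ} (hp : PairOK D C g d d' M) :
    ∀ a ∈ X.A, ∀ b ∈ X.A, a * b ∈ X.A := by
  intro a ha b hb
  have hT := X.top_lt
  have hg : g < D.nroots := hp.g_lt.trans hT
  have h1 : ng D 1 < D.nroots := by unfold ng; omega
  have hga := (X.long_mem_iff hg hp.g_long).2 (X.A.neg_mem ha)
  have hgb := (X.long_mem_iff h1 hp.g'_long).2 hb
  have hne : ng D 1 ≠ g := fun e => hp.g_ne.2.2 e.symm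
  have hng : ng D 1 ≠ ng D g := fun e => hp.g_ne.2.1 (by have := congrArg (ng D) e; rw [Checked.ng_ng (by omega), Checked.ng_ng hg] at this; exact this.symm)
  have e := xg_comm_one X.hh hg h1 hne hng hp.gg' (-a) b
  have hm : xg X.hh (top D) (((1 : ℤ) : k) * (- -a) ^ 1 * b ^ 1) ∈ X.H := by
    have := mul_mem (inv_mem (mul_mem hga hgb)) (mul_mem hgb hga)
    rw [e] at this
    simpa [mul_assoc] using this
  simpa [X.mem_A] using hm

/-- Half an element of `A` is in `A`. -/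
theorem half_mem (h2 : (2 : k) ≠ 0) {x : k} (hx : 2 * x ∈ X.A) : x ∈ X.A := by
  obtain ⟨y, hy, e⟩ := X.finite_surj (f := fun y => 2 * y) (mul_right_injective₀ h2).injOn
    (fun a ha => by show 2 * a ∈ X.A; rw [two_mul]; exact X.A.add_mem ha ha) hx
  rw [← mul_left_cancel₀ h2 e]; exact hy

/-- A short root element occurs in a commutator with a long one. -/
theorem short_of_comm {r s c c' : ℕ} {M M' : ℤ} (hr : r < D.nroots) (hs : s < D.nroots) (hc' : c' < D.nroots)
    (h1 : s ≠ r) (h2 : s ≠ ng D r) (hl : cTerms C r s = [(c, M, 1, 1), (c', M', 1, 2)]) (hM : M = 1 ∨ M = -1)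
    (hM' : M' = 1 ∨ M' = -1) (hlr : isLong D C r = true) (hlc : isLong D C c' = true) {t : k} (ht : t ∈ X.A) :
    xg X.hh c t ∈ X.H := by
  have hrt := (X.long_mem_iff hr hlr).2 ht
  have hs1 := X.ones s hs
  have e := xg_comm X.hh hr hs h1 h2 hl t 1
  have hct : ((M' : k) * (-t) ^ 1 * 1 ^ 2) ∈ X.A := by
    rcases hM' with w | w <;> simp [w, X.A.neg_mem ht, ht]
  have hc'm := (X.long_mem_iff hc' hlc).2 hct
  have h3 := mul_mem (inv_mem (mul_mem hrt hs1)) (mul_mem hs1 hrt)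
  rw [e, inv_mul_cancel_left] at h3
  simp only [List.map_cons, List.map_nil, List.prod_cons, List.prod_nil, mul_one] at h3
  have h4 := mul_mem h3 (inv_mem hc'm)
  rw [one_pow, mul_one, mul_inv_cancel_right, pow_one] at h4
  rcases hM with w | w
  · simpa [w, X.xg_neg_mem] using h4
  · simpa [w] using h4

theorem short_of_short0 (h : ∀ t ∈ X.A, S.short0 ≠ 0 → xg X.hh S.short0 t ∈ X.H) :
    ∀ r < D.nroots, ∀ t ∈ X.A, xg X.hh r t ∈ X.H := by
  intro r hr t ht
  by_cases hl : isLong D C r = true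
  · exact (X.long_mem_iff hr hl).2 ht
  · simp only [Bool.not_eq_true] at hl
    rw [X.mem_iff_lowest r hr, hl]
    simpa using h t ht (X.short0_short hr hl).1

theorem hElem_mem (hmul : ∀ a ∈ X.A, ∀ b ∈ X.A, a * b ∈ X.A) {r : ℕ} (hr : r < D.nroots)
    (hl : isLong D C r = true) (hl' : isLong D C (ng D r) = true) (c : kˣ) (hc : (c : k) ∈ X.A) :
    hElem D C r c ∈ X.H := by
  have hinv : ((c : k))⁻¹ ∈ X.A := (X.field hmul).inv_mem hc
  have hn : ∀ t : k, t ∈ X.A → t⁻¹ ∈ X.A → (t ∈ X.A ∧ -t⁻¹ ∈ X.A) := fun t a b => ⟨a, X.A.neg_mem b⟩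
  have e : hElem D C r c = xg X.hh r (c : k) * xg X.hh (ng D r) (-(c : k)⁻¹) * xg X.hh r (c : k) *
      (xg X.hh r (-1) * xg X.hh (ng D r) 1 * xg X.hh r (-1)) := by
    refine Units.ext ?_
    rw [hElem, ← X.hh.hMat_torus hr c]
    simp [ChevalleyDatum.hMat, ChevalleyDatum.hWord, ChevalleyDatum.nWord, ChevalleyDatum.wordMat, coe_xg,
      X.hh.toChecked.neg_eq hr, mul_assoc]
  rw [e]
  have hl1 := fun {t : k} (ht : t ∈ X.A) => (X.long_mem_iff hr hl).2 ht
  have hl2 := fun {t : k} (ht : t ∈ X.A) => (X.long_mem_iff (Checked.ng_lt hr) hl').2 ht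
  exact mul_mem (mul_mem (mul_mem (hl1 hc) (hl2 (X.A.neg_mem hinv))) (hl1 hc))
    (mul_mem (mul_mem (hl1 (X.A.neg_mem X.one_mem_A)) (hl2 X.one_mem_A)) (hl1 (X.A.neg_mem X.one_mem_A)))

end Ctx

/-! ### Type B2 -/

section B2

variable (X : Ctx chevB2 B2.cert subB2 k)
include X

theorem b2_A_le_short {t : k} (ht : t ∈ X.A) : xg X.hh 1 t ∈ X.H :=
  X.short_of_comm (r := 0) (s := 5) (c := 1) (c' := 3) (M := 1) (M' := -1) (by decide) (by decide) (by decide)
    (by decide) (by decide) (by decide +kernel) (Or.inl rfl) (Or.inr rfl) (by decide +kernel) (by decide +kernel) ht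

theorem b2_short6 {t : k} : xg X.hh 6 t ∈ X.H ↔ xg X.hh 1 t ∈ X.H :=
  X.xg_mem_congr (by decide) (by decide) (by decide +kernel) t

theorem b2_short5 {t : k} : xg X.hh 5 t ∈ X.H ↔ xg X.hh 1 t ∈ X.H :=
  X.xg_mem_congr (by decide) (by decide) (by decide +kernel) t

theorem b2_comm45 (t u : k) : xg X.hh 5 u * xg X.hh 4 t =
    xg X.hh 4 t * xg X.hh 5 u * (xg X.hh 6 (-(t * u)) * xg X.hh 7 (t * u ^ 2)) := by
  rw [xg_comm X.hh (r := 4) (s := 5) (by decide) (by decide) (by decide) (by decide)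
    (l := [(6, 1, 1, 1), (7, -1, 1, 2)]) (by decide +kernel)]
  simp

theorem b2_pair_mem {t u : k} (ht : t ∈ X.A) (hu : xg X.hh 1 u ∈ X.H) :
    xg X.hh 6 (-(t * u)) * xg X.hh 7 (t * u ^ 2) ∈ X.H := by
  have h4 := (X.long_mem_iff (r := 4) (by decide) (by decide +kernel)).2 ht
  have h5 := (b2_short5 X).2 hu
  have := mul_mem (inv_mem (mul_mem h4 h5)) (mul_mem h5 h4)
  rwa [b2_comm45 X, inv_mul_cancel_left] at this

theorem b2_sq_mem {u : k} (hu : xg X.hh 1 u ∈ X.H) : u ^ 2 ∈ X.A := by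
  have h := b2_pair_mem X X.one_mem_A hu
  have h6 : xg X.hh 6 (-(1 * u)) ∈ X.H := by rw [one_mul, X.xg_neg_mem]; exact (b2_short6 X).2 hu
  have := mul_mem (inv_mem h6) h
  rw [inv_mul_cancel_left, one_mul] at this
  exact this

theorem b2_short_le_A {u : k} (hu : xg X.hh 1 u ∈ X.H) : u ∈ X.A := by
  by_cases h2 : (2 : k) = 0
  · let As : Set k := {t | xg X.hh 1 t ∈ X.H}
    have hfin : As.Finite := by
      haveI := X.finite
      refine Set.Finite.of_finite_image (f := fun t => xg X.hh 1 t) ?_ (xg_injective _ (by decide)).injOn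
      exact (Set.toFinite (X.H : Set _)).subset (by rintro _ ⟨t, ht, rfl⟩; exact ht)
    have hinj : Set.InjOn (fun t : k => t ^ 2) As := by
      intro a _ b _ e
      have e' : a ^ 2 = b ^ 2 := e
      have : (a - b) ^ 2 = 0 := by linear_combination e' + (b ^ 2 - a * b) * h2
      exact sub_eq_zero.1 (pow_eq_zero_iff two_ne_zero |>.1 this)
    obtain ⟨a, ha, e⟩ := ((Set.Finite.injOn_iff_bijOn_of_mapsTo hfin
      (fun a ha => b2_A_le_short X (b2_sq_mem X ha))).1 hinj).surjOn (show u ∈ As from hu)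
    rw [← e]; exact b2_sq_mem X ha
  · refine X.half_mem h2 ?_
    have h1 : xg X.hh 1 (u + 1) ∈ X.H := by
      rw [← xg_add]; exact mul_mem hu (X.ones 1 (by decide))
    have := X.A.sub_mem (X.A.sub_mem (b2_sq_mem X h1) (b2_sq_mem X hu)) X.one_mem_A
    convert this using 1; ring

section Char2

variable [CharP k 2]

theorem b2_eta (i r : ℕ) : (eta B2.cert i r : k) = 1 := by
  rcases eta_cases (C := B2.cert) i r with w | w <;> simp [w, CharTwo.neg_eq]

theorem b2_comm67 (t u : k) : Commute (xg X.hh 6 t) (xg X.hh 7 u) :=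
  xg_commute _ (by decide) (by decide) (by decide) (by decide +kernel) t u

theorem b2_comm47 (t u : k) : Commute (xg X.hh 4 t) (xg X.hh 7 u) :=
  xg_commute _ (by decide) (by decide) (by decide) (by decide +kernel) t u

theorem b2_conj_mem {i r s r' s' : ℕ} (hi : i < chevB2.rank) (hr : r < 8) (hs : s < 8)
    (er : refl B2.cert i r = r') (es : refl B2.cert i s = s') {α β : k}
    (hq : xg X.hh r α * xg X.hh s β ∈ X.H) : xg X.hh r' α * xg X.hh s' β ∈ X.H := by
  have hn := X.nS_mem hi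
  have := mul_mem (mul_mem hn hq) (inv_mem hn)
  rw [show nS X.hh.toChecked k i * (xg X.hh r α * xg X.hh s β) * (nS X.hh.toChecked k i)⁻¹ =
      (nS X.hh.toChecked k i * xg X.hh r α * (nS X.hh.toChecked k i)⁻¹) *
      (nS X.hh.toChecked k i * xg X.hh s β * (nS X.hh.toChecked k i)⁻¹) by group,
    X.nS_conj hi hr, X.nS_conj hi hs, b2_eta X, b2_eta X, one_mul, one_mul, er, es] at this
  exact this

/-- From a pair on the roots `a+b`, `2a+b` and an element of `A` another such pair. -/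
theorem b2_step {α β : k} (hq : xg X.hh 6 α * xg X.hh 7 β ∈ X.H) {t : k} (ht : t ∈ X.A) :
    xg X.hh 6 (t * α) * xg X.hh 7 (t * α ^ 2) ∈ X.H := by
  have hQ := b2_conj_mem X (i := 1) (r' := 5) (s' := 7) (by decide) (by decide) (by decide) (by decide +kernel)
    (by decide +kernel) hq
  have h4 := (X.long_mem_iff (r := 4) (by decide) (by decide +kernel)).2 ht
  have e : xg X.hh 5 α * xg X.hh 7 β * xg X.hh 4 t =
      xg X.hh 4 t * (xg X.hh 5 α * xg X.hh 7 β) * (xg X.hh 6 (t * α) * xg X.hh 7 (t * α ^ 2)) := by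
    rw [mul_assoc, ← (b2_comm47 X t β).eq, ← mul_assoc, b2_comm45 X, CharTwo.neg_eq,
      mul_assoc (xg X.hh 4 t * xg X.hh 5 α),
      ((b2_comm67 X _ β).mul_left (show Commute (xg X.hh 7 (t * α ^ 2)) (xg X.hh 7 β) by
        show _ * _ = _ * _; rw [xg_add, xg_add, add_comm])).eq]
    simp only [mul_assoc]
  have := mul_mem (inv_mem (mul_mem h4 hQ)) (mul_mem hQ h4)
  rwa [e, inv_mul_cancel_left] at this

theorem b2_key {α β : k} (hq : xg X.hh 6 α * xg X.hh 7 β ∈ X.H) : β - α ^ 2 ∈ X.A := by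
  have h1 := b2_step X hq X.one_mem_A
  rw [one_mul, one_mul] at h1
  have := mul_mem (inv_mem h1) hq
  rw [mul_inv_rev, mul_assoc, inv_mul_cancel_left, xg_inv, xg_add, neg_add_eq_sub] at this
  exact this

/-- The commutator of the two images of a pair. -/
theorem b2_prod {α β : k} (hq : xg X.hh 6 α * xg X.hh 7 β ∈ X.H) :
    xg X.hh 6 (α * β) * xg X.hh 7 (α ^ 2 * β) ∈ X.H := by
  have hQ := b2_conj_mem X (i := 1) (r' := 5) (s' := 7) (by decide) (by decide) (by decide) (by decide +kernel)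
    (by decide +kernel) hq
  have hP := b2_conj_mem X (i := 0) (r' := 6) (s' := 4) (by decide) (by decide) (by decide) (by decide +kernel)
    (by decide +kernel) hq
  have c56 : xg X.hh 5 α * xg X.hh 6 α = xg X.hh 6 α * xg X.hh 5 α := by
    rw [xg_comm_one X.hh (r := 6) (s := 5) (a := 7) (M := -2) (i := 1) (j := 1) (by decide) (by decide) (by decide)
      (by decide) (by decide +kernel)]
    simp [CharTwo.two_eq_zero, xg_zero]
  have e : xg X.hh 5 α * xg X.hh 7 β * (xg X.hh 6 α * xg X.hh 4 β) =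
      xg X.hh 6 α * xg X.hh 4 β * (xg X.hh 5 α * xg X.hh 7 β) *
        (xg X.hh 6 (α * β) * xg X.hh 7 (α ^ 2 * β)) := by
    calc _ = xg X.hh 6 α * (xg X.hh 5 α * xg X.hh 4 β) * xg X.hh 7 β := by
          rw [mul_assoc, ← mul_assoc (xg X.hh 7 β), ← (b2_comm67 X α β).eq, mul_assoc (xg X.hh 6 α),
            ← (b2_comm47 X β β).eq, ← mul_assoc, c56]
          simp only [mul_assoc]
      _ = _ := by
          rw [b2_comm45 X, CharTwo.neg_eq, mul_comm β α, mul_comm β (α ^ 2)]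
          have c : Commute (xg X.hh 6 (α * β) * xg X.hh 7 (α ^ 2 * β)) (xg X.hh 7 β) :=
            (b2_comm67 X _ β).mul_left (show _ * _ = _ * _ by rw [xg_add, xg_add, add_comm])
          simp only [mul_assoc]
          rw [← mul_assoc (xg X.hh 6 (α * β)), c.eq]
  have := mul_mem (inv_mem (mul_mem hP hQ)) (mul_mem hQ hP)
  rwa [e, inv_mul_cancel_left] at this

theorem b2_sq_surj {a : k} (ha : a ∈ X.A) : ∃ t ∈ X.A, t ^ 2 = a :=
  X.finite_surj (f := fun t => t ^ 2) (fun x _ y _ e => CharTwo.sq_injective (show x ^ 2 = y ^ 2 from e))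
    (fun a ha => b2_sq_mem X (b2_A_le_short X ha)) ha

end Char2

theorem mul_closed_B2 : ∀ a ∈ X.A, ∀ b ∈ X.A, a * b ∈ X.A := by
  by_cases h2 : (2 : k) = 0
  swap
  · intro a ha b hb
    refine X.half_mem h2 ?_
    have := X.A.sub_mem (X.A.sub_mem (b2_sq_mem X (b2_A_le_short X (X.A.add_mem ha hb)))
      (b2_sq_mem X (b2_A_le_short X ha))) (b2_sq_mem X (b2_A_le_short X hb))
    convert this using 1; ring
  -- characteristic two
  haveI : CharP k 2 := CharTwo.of_one_ne_zero_of_two_eq_zero one_ne_zero h2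
  have tri : ∀ a ∈ X.A, ∀ b ∈ X.A, ∀ s ∈ X.A, a * b * (s - s ^ 2) ∈ X.A := by
    intro a ha b hb s hs
    obtain ⟨t, ht, rfl⟩ := b2_sq_surj X ha
    obtain ⟨u, hu, rfl⟩ := b2_sq_surj X hb
    have h0 := b2_pair_mem X ht (b2_A_le_short X hu)
    rw [CharTwo.neg_eq] at h0
    have := b2_key X (b2_step X h0 hs)
    convert this using 1; ring
  intro a ha b hb
  by_cases hw : ∀ s ∈ X.A, s - s ^ 2 = 0
  · have := hw a ha
    rcases mul_eq_zero.1 (show a * (1 - a) = 0 by linear_combination this) with w | w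
    · simp [w]
    · rw [← sub_eq_zero.1 w, one_mul]; exact hb
  push_neg at hw
  obtain ⟨s, hs, hw⟩ := hw
  obtain ⟨c, hc, e⟩ := X.finite_surj (f := fun c => 1 * c * (s - s ^ 2))
    (fun x _ y _ e => by simpa [hw] using e) (fun c hc => tri 1 X.one_mem_A c hc s hs) hb
  have h := tri a ha c hc s hs
  rw [← e]
  convert h using 1; ring

theorem shorts_B2 : ∀ r < chevB2.nroots, ∀ t ∈ X.A, xg X.hh r t ∈ X.H :=
  X.short_of_short0 fun _ ht _ => b2_A_le_short X ht

end B2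

/-! ### Short root elements in types F4 and G2 -/

theorem shorts_noSub {w : List ℕ} (X : Ctx D C (noSub w) k) : ∀ r < D.nroots, ∀ t ∈ X.A, xg X.hh r t ∈ X.H :=
  X.short_of_short0 fun _ _ h => absurd rfl h

theorem shorts_F4 (X : Ctx chevF4 F4.cert subF4 k) : ∀ r < chevF4.nroots, ∀ t ∈ X.A, xg X.hh r t ∈ X.H :=
  X.short_of_short0 fun t ht _ =>
    X.short_of_comm (r := 0) (s := 29) (c := 3) (c' := 6) (M := 1) (M' := 1) (by decide) (by decide) (by decide)
      (by decide) (by decide) (by decide +kernel) (Or.inl rfl) (Or.inl rfl) (by decide +kernel) (by decide +kernel) ht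

theorem shorts_G2 (X : Ctx chevG2 G2.cert subG2 k) (hmul : ∀ a ∈ X.A, ∀ b ∈ X.A, a * b ∈ X.A) :
    ∀ r < chevG2.nroots, ∀ t ∈ X.A, xg X.hh r t ∈ X.H := by
  refine X.short_of_short0 fun t ht _ => ?_
  show xg X.hh 2 t ∈ X.H
  by_cases h01 : ∀ a ∈ X.A, a = 0 ∨ a = 1
  · rcases h01 t ht with rfl | rfl
    · rw [xg_zero]; exact one_mem _
    · exact X.ones 2 (by decide)
  push_neg at h01
  obtain ⟨l, hl, hl0, hl1⟩ := h01
  have l10 : ∀ s ∈ X.A, xg X.hh 8 (-s) * xg X.hh 9 (-s) ∈ X.H := by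
    intro s hs
    have h6 := (X.long_mem_iff (r := 6) (by decide) (by decide +kernel)).2 hs
    have h7 := X.ones 7 (by decide)
    have := mul_mem (inv_mem (mul_mem h6 h7)) (mul_mem h7 h6)
    rw [xg_comm X.hh (r := 6) (s := 7) (by decide) (by decide) (by decide) (by decide)
      (l := [(8, 1, 1, 1), (9, 1, 1, 2), (10, -1, 1, 3), (11, -2, 2, 3)]) (by decide +kernel),
      inv_mul_cancel_left] at this
    simp only [List.map_cons, List.map_nil, List.prod_cons, List.prod_nil, mul_one, one_pow, pow_one,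
      Int.cast_one, one_mul, Int.cast_neg, neg_mul, neg_neg, Int.cast_ofNat, neg_sq] at this
    have h10 := (X.long_mem_iff (r := 10) (by decide) (by decide +kernel)).2 hs
    have h11 := (X.long_mem_iff (r := 11) (by decide) (by decide +kernel) (t := -(2 * s ^ 2))).2 (by
      refine X.A.neg_mem ?_
      rw [two_mul, sq]; exact X.A.add_mem (hmul _ hs _ hs) (hmul _ hs _ hs))
    have h3 := mul_mem this (inv_mem (mul_mem h10 h11))
    simpa [mul_assoc] using h3
  let c : kˣ := Units.mk0 l hl0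
  have hh6 := X.hElem_mem hmul (r := 6) (by decide) (by decide +kernel) (by decide +kernel) c hl
  obtain ⟨s, hs, e⟩ := X.finite_surj (f := fun s => (1 - l) * s)
    (mul_right_injective₀ (sub_ne_zero.2 (Ne.symm hl1))).injOn
    (fun a ha => hmul _ (X.A.sub_mem X.one_mem_A hl) _ ha) ht
  have h1 := l10 s hs
  have h2 := mul_mem (mul_mem (mul_mem hh6 h1) (inv_mem hh6)) (inv_mem h1)
  rw [show hElem chevG2 G2.cert 6 c * (xg X.hh 8 (-s) * xg X.hh 9 (-s)) * (hElem chevG2 G2.cert 6 c)⁻¹ =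
      (hElem chevG2 G2.cert 6 c * xg X.hh 8 (-s) * (hElem chevG2 G2.cert 6 c)⁻¹) *
      (hElem chevG2 G2.cert 6 c * xg X.hh 9 (-s) * (hElem chevG2 G2.cert 6 c)⁻¹) by group,
    hElem_conj X.hh (by decide), hElem_conj X.hh (by decide),
    show pairI chevG2 G2.cert 6 8 = 1 by decide +kernel, show pairI chevG2 G2.cert 6 9 = 0 by decide +kernel,
    zpow_one, zpow_zero, Units.val_one, one_mul, mul_inv_rev, ← mul_assoc, mul_inv_cancel_right, xg_inv,
    xg_add] at h2
  rw [X.xg_mem_congr (s := 8) (by decide) (by decide) (by decide +kernel), ← e,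
    show (1 - l) * s = (c : k) * -s + - -s by simp [c]; ring]
  exact h2

end Cfsg.Agent.Lib.ChevOver
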