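import Cfsg.Agent.Lib.ChevOver.Low

/-!
Every element of `H` is fixed by the field automorphism whose fixed field is `A`.
-/

set_option autoImplicit false

namespace Cfsg.Agent.Lib.ChevOver

open Cfsg.Lie Cfsg.Agent.Lib.Chev Cfsg.Agent.Lib.ChevField
open scoped Matrix

variable {D : ChevalleyDatum} {C : Cert} {S : SubCert} {k : Type*} [Field k]

/-- A root and its negative have the same length. -/
def chkNegLong (D : ChevalleyDatum) (C : Cert) : Bool :=
  allN D.nroots fun r => isLong D C r == isLong D C (ng D r)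

theorem co_sum {ι : Type*} (s : Finset ι) (f : ι → D.Idx → k) (y : ℕ) :
    co (∑ j ∈ s, f j) y = ∑ j ∈ s, co (f j) y := by
  simp only [co, Finset.sum_apply, Finset.mul_sum]
  exact Finset.sum_comm

/-- The value of a root on the coroot part of a vector. -/
def alphaAt (a : ℕ) (d : D.Idx → k) : k :=
  ∑ j ∈ Finset.range D.rank, (D.cartan j a : k) * co d (D.nroots + j)

/-- The vector of the coroot of a root. -/
def corVec (D : ChevalleyDatum) (C : Cert) (k : Type*) [Field k] (s : ℕ) : D.Idx → k :=
  ∑ i ∈ Finset.range D.rank, (cor D C i s : k) • bv D k (D.nroots + i)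

/-- Vectors whose long coordinates stay zero. -/
structure Killed (D : ChevalleyDatum) (C : Cert) (S : SubCert) {k : Type*} [Field k] (d : D.Idx → k) : Prop where
  root : ∀ r < D.nroots, isLong D C r = true ∨ (S.e : k) ≠ 0 → co d r = 0
  alpha : ∀ a < D.nroots, isLong D C a = true ∨ (S.e : k) ≠ 0 → alphaAt a d = 0

theorem entK_zero (r y c : ℕ) : entK D C r y c 0 = if c = y then 1 else 0 := by simp [entK, eCol]

theorem entK_h (h : Checked D C) (r y j n : ℕ) :
    entK D C r y (D.nroots + j) (n + 1) = if n = 0 ∧ r = y then - D.cartan j r else 0 := by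
  obtain ⟨-, e1, e2⟩ := h.eCol_h (r := r) (j := j)
  rcases n with _ | n
  · simp [entK, e1]
  · simp [entK, e2]

theorem evalC_map (f : ℕ → ℤ) : ∀ n, evalC D k ((List.range n).map fun i => (D.nroots + i, f i)) =
    ∑ i ∈ Finset.range n, (f i : k) • bv D k (D.nroots + i) := by
  intro n
  induction n with
  | zero => simp [evalC]
  | succ n ih =>
    rw [evalC, List.map_map] at ih
    simp [evalC, List.range_succ, ih, Finset.sum_range_succ]

namespace Ctx

variable (X : Ctx D C S k)
include X

theorem entK_coroot {r c i n : ℕ} (hr : r < D.nroots) (hc : c < D.nroots) (hi : i < D.rank) :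
    entK D C r (D.nroots + i) c (n + 1) = if c = ng D r ∧ n = 0 then cor D C i r else 0 := by
  have h := X.hh.toChecked
  by_cases e1 : c = r
  · subst e1
    rw [entK, h.eCol_self hr, if_neg (fun e => h.ng_ne hr e.1.symm)]
    simp
  by_cases e2 : c = ng D r
  · subst e2
    obtain ⟨a1, a2, a3⟩ := h.eCol_opp hr
    rcases n with _ | _ | n
    · rw [entK, a1, if_pos ⟨rfl, rfl⟩, List.map_map]
      have key : ∀ m, (((List.range m).map ((fun e : ℕ × ℤ => if e.1 = D.nroots + i then e.2 else 0) ∘
          fun j => (D.nroots + j, cor D C j r))).sum) = if i < m then cor D C i r else 0 := by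
        intro m
        induction m with
        | zero => simp
        | succ m ih =>
          rw [List.range_succ, List.map_append, List.sum_append, ih]
          rcases lt_trichotomy i m with w | w | w
          · simp [w, w.trans (Nat.lt_succ_self m), w.ne']
          · subst w; simp
          · simp [show ¬ i < m by omega, show ¬ i < m + 1 by omega, show m ≠ i by omega]
      rw [key, if_pos hi]
    · rw [entK, a2, if_neg (fun e => absurd e.2 (by omega))]
      have : r ≠ D.nroots + i := by omega
      simp [this]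
    · rw [entK, a3, if_neg (fun e => absurd e.2 (by omega))]
      simp
  rw [entK, h.eCol_gen hc e1 e2, if_neg (fun e => e2 e.1)]
  rcases hk : (cE C r c)[n]? with _ | e
  · simp
  · have := (h.cE_mem hr (List.mem_of_getElem? hk)).1
    have : e.1 ≠ D.nroots + i := by omega
    simp [this]

theorem entK_special (hS : (S.e : k) = 0) {r y c n : ℕ} (hr : r < D.nroots) (hy : y < D.nroots)
    (hc : c < D.nroots) (hn : n < 3) (hly : isLong D C y = true) (hlc : isLong D C c = false) :
    (entK D C r y c (n + 1) : k) = 0 := by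
  have hb := X.ok.special_ok
  unfold chkSpecial at hb
  by_cases h0 : Nat.beq S.short0 0 = true
  · rw [h0, cond_true, natBeq_eq, decide_eq_true_eq] at hb
    rw [hb] at hS; simp at hS
  simp only [Bool.not_eq_true] at h0
  simp only [h0, cond_false, allN_iff, Bool.or_eq_true, Bool.and_eq_true, List.all_eq_true, Bool.not_eq_true',
    decide_eq_true_eq, Nat.ble_eq] at hb
  rcases hb c hc with w | ⟨w, -⟩
  · rw [hlc] at w; exact absurd w (by simp)
  rw [entK]
  have key : ∀ l : List (ℕ × ℤ), (∀ e ∈ l, e ∈ eCol D C r c (n + 1)) →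
      (((l.map fun e => if e.1 = y then e.2 else 0).sum : ℤ) : k) = 0 := by
    intro l
    induction l with
    | nil => simp
    | cons e l ih =>
      intro hl
      rw [List.map_cons, List.sum_cons, Int.cast_add, ih fun x hx => hl x (List.mem_cons_of_mem _ hx), add_zero]
      by_cases hey : e.1 = y
      · rw [if_pos hey]
        rcases w r hr n hn e (hl e List.mem_cons_self) with (w' | w') | w'
        · omega
        · rw [hey, hly] at w'; exact absurd w' (by simp)
        · obtain ⟨q, hq⟩ := Int.dvd_of_emod_eq_zero w'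
          rw [hq]; push_cast; rw [hS, zero_mul]
      · simp [hey]
  exact key _ fun e he => he

theorem pairI_special (hS : (S.e : k) = 0) {c a : ℕ} (hc : c < D.nroots) (ha : a < D.nroots)
    (hlc : isLong D C c = false) (hla : isLong D C a = true) : (pairI D C c a : k) = 0 := by
  have hb := X.ok.special_ok
  unfold chkSpecial at hb
  by_cases h0 : Nat.beq S.short0 0 = true
  · rw [h0, cond_true, natBeq_eq, decide_eq_true_eq] at hb
    rw [hb] at hS; simp at hS
  simp only [Bool.not_eq_true] at h0
  simp only [h0, cond_false, allN_iff, Bool.or_eq_true, Bool.and_eq_true, Bool.not_eq_true',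
    decide_eq_true_eq] at hb
  rcases hb c hc with w | ⟨-, w⟩
  · rw [hlc] at w; exact absurd w (by simp)
  rcases w a ha with w' | w'
  · rw [hla] at w'; exact absurd w' (by simp)
  · obtain ⟨q, hq⟩ := Int.dvd_of_emod_eq_zero w'
    rw [hq]; push_cast; rw [hS, zero_mul]

theorem co_xg {r y : ℕ} (hr : r < D.nroots) (hy : y < D.nroots + D.rank) (t : k) (d : D.Idx → k) :
    co ((xg X.hh r t).val *ᵥ d) y = co d y + ∑ c ∈ Finset.range (D.nroots + D.rank),
      (∑ n ∈ Finset.range 3, t ^ (n + 1) * (entK D C r y c (n + 1) : k)) * co d c := by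
  rw [co_mulVec]
  have e : ∀ c ∈ Finset.range (D.nroots + D.rank), co ((xg X.hh r t).val *ᵥ bv D k c) y * co d c =
      (if c = y then co d c else 0) +
        (∑ n ∈ Finset.range 3, t ^ (n + 1) * (entK D C r y c (n + 1) : k)) * co d c := by
    intro c hc
    rw [co_x_bv X.hh hr (Finset.mem_range.1 hc) hy, Finset.sum_range_succ' _ 3, entK_zero, add_mul, add_comm]
    by_cases hcy : c = y <;> simp [hcy]
  rw [Finset.sum_congr rfl e, Finset.sum_add_distrib, Finset.sum_ite_eq' _ y, if_pos (Finset.mem_range.2 hy)]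

theorem co_xg_root {r y : ℕ} (hr : r < D.nroots) (hy : y < D.nroots)
    (hyl : isLong D C y = true ∨ (S.e : k) ≠ 0) (t : k) {d : D.Idx → k}
    (hd : ∀ c < D.nroots, isLong D C c = true ∨ (S.e : k) ≠ 0 → co d c = 0) :
    co ((xg X.hh r t).val *ᵥ d) y = co d y - t * (if r = y then alphaAt r d else 0) := by
  rw [X.co_xg hr (by omega), Finset.sum_range_add, Finset.sum_eq_zero (s := Finset.range D.nroots), zero_add,
    sub_eq_add_neg]
  · congr 1
    by_cases hry : r = y
    · subst hry
      rw [if_pos rfl, alphaAt, Finset.mul_sum, ← Finset.sum_neg_distrib]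
      refine Finset.sum_congr rfl fun j _ => ?_
      rw [Finset.sum_eq_single 0 (fun n _ hn => by rw [entK_h X.hh.toChecked, if_neg (fun e => hn e.1)]; simp) (by simp),
        entK_h X.hh.toChecked, if_pos ⟨rfl, rfl⟩]
      push_cast; ring
    · rw [if_neg hry, mul_zero, neg_zero]
      refine Finset.sum_eq_zero fun j _ => ?_
      rw [Finset.sum_eq_zero fun n _ => by rw [entK_h X.hh.toChecked, if_neg (fun e => hry e.2)]; simp, zero_mul]
  · intro c hc
    rw [Finset.mem_range] at hc
    by_cases hcl : isLong D C c = true ∨ (S.e : k) ≠ 0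
    · rw [hd c hc hcl, mul_zero]
    · push Not at hcl
      simp only [Bool.not_eq_true] at hcl
      rw [Finset.sum_eq_zero fun n hn => ?_, zero_mul]
      rw [X.entK_special hcl.2 hr hy hc (Finset.mem_range.1 hn) (hyl.resolve_right (not_not.2 hcl.2)) hcl.1,
        mul_zero]

theorem alpha_xg (hneg : chkNegLong D C = true) {r a : ℕ} (hr : r < D.nroots) (ha : a < D.nroots)
    (hal : isLong D C a = true ∨ (S.e : k) ≠ 0) (t : k) {d : D.Idx → k}
    (hd : ∀ c < D.nroots, isLong D C c = true ∨ (S.e : k) ≠ 0 → co d c = 0) :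
    alphaAt a ((xg X.hh r t).val *ᵥ d) = alphaAt a d := by
  have hn := Checked.ng_lt (D := D) hr
  have e : ∀ i ∈ Finset.range D.rank, (D.cartan i a : k) * co ((xg X.hh r t).val *ᵥ d) (D.nroots + i) =
      (D.cartan i a : k) * co d (D.nroots + i) + t * co d (ng D r) * ((cor D C i r * D.cartan i a : ℤ) : k) := by
    intro i hi
    rw [Finset.mem_range] at hi
    rw [X.co_xg hr (by omega), mul_add]
    congr 1
    rw [Finset.sum_eq_single (ng D r)]
    · rw [Finset.sum_eq_single 0 (fun n _ hne => by rw [X.entK_coroot hr hn hi, if_neg (fun e => hne e.2)]; simp)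
        (by simp), X.entK_coroot hr hn hi, if_pos ⟨rfl, rfl⟩]
      push_cast; ring
    · intro c hc hne
      rw [Finset.sum_eq_zero, zero_mul]
      intro n _
      by_cases hcn : c < D.nroots
      · rw [X.entK_coroot hr hcn hi, if_neg (fun e => hne e.1)]; simp
      · obtain ⟨j, rfl⟩ := Nat.exists_eq_add_of_le (Nat.le_of_not_lt hcn)
        rw [entK_h X.hh.toChecked, if_neg (fun e => by omega)]; simp
    · intro h; exact absurd (Finset.mem_range.2 (by omega)) h
  rw [alphaAt, Finset.sum_congr rfl e, Finset.sum_add_distrib, ← Finset.mul_sum, ← Int.cast_sum]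
  show alphaAt a d + _ = _
  by_cases h0 : co d (ng D r) = 0
  · simp [h0]
  have hsp : ¬ (isLong D C (ng D r) = true ∨ (S.e : k) ≠ 0) := fun w => h0 (hd _ hn w)
  push Not at hsp
  simp only [Bool.not_eq_true] at hsp
  simp only [chkNegLong, allN_iff, beq_iff_eq] at hneg
  have hp := X.pairI_special hsp.2 hr ha ((hneg r hr).trans hsp.1) (hal.resolve_right (not_not.2 hsp.2))
  rw [pairI, zsum_eq] at hp
  rw [hp, mul_zero, add_zero]

theorem killed_group (hneg : chkNegLong D C = true) {g : GL D.Idx k} (hg : g ∈ D.group k) :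
    ∀ {d : D.Idx → k}, Killed D C S d → Killed D C S (g.val *ᵥ d) := by
  have step : ∀ r < D.nroots, ∀ t : k, ∀ d : D.Idx → k, Killed D C S d → Killed D C S ((xg X.hh r t).val *ᵥ d) := by
    intro r hr t d hd
    refine ⟨fun y hy hyl => ?_, fun a ha hal => by rw [X.alpha_xg hneg hr ha hal t hd.root, hd.alpha a ha hal]⟩
    rw [X.co_xg_root hr hy hyl t hd.root, hd.root y hy hyl]
    split_ifs with e
    · subst e; rw [hd.alpha r hr hyl]; simp
    · simp
  rw [group_eq_rootGen] at hg
  induction hg using Subgroup.closure_induction'' with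
  | mem g hg =>
    obtain ⟨r, t, hr, e⟩ := hg
    intro d hd
    rw [e, ← coe_xg X.hh]
    exact step r hr t d hd
  | inv_mem g hg =>
    obtain ⟨r, t, hr, e⟩ := hg
    intro d hd
    rw [show g = xg X.hh r t from Units.ext (by rw [coe_xg]; exact e), xg_inv]
    exact step r hr _ d hd
  | one => intro d hd; simpa using hd
  | mul a b _ _ ha hb =>
    intro d hd
    rw [Units.val_mul, ← Matrix.mulVec_mulVec]
    exact ha (hb hd)

variable {σ : k →+* k} (hσ : ∀ x, σ x = x ↔ x ∈ X.A)
  (hlow : ∀ g ∈ X.H, co (g.val *ᵥ bv D k (top D)) 0 ∈ X.A)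
include hσ

theorem glMap_fix {g : GL D.Idx k} (hg : ∀ i j, g.val i j ∈ X.A) : glMap D σ g = g :=
  Units.ext (by ext i j; rw [coe_glMap, Matrix.map_apply]; exact (hσ _).2 (hg i j))

omit hσ in
theorem map_co (τ : k →+* k) (v : D.Idx → k) (y : ℕ) : co (fun x => τ (v x)) y = τ (co v y) := by
  simp only [co, map_sum, map_mul]
  refine Finset.sum_congr rfl fun x _ => ?_
  congr 1
  simp [bv, apply_ite τ]

omit hσ in
theorem map_mulVec (τ : k →+* k) (g : GL D.Idx k) (v : D.Idx → k) :
    (glMap D τ g).val *ᵥ (fun x => τ (v x)) = fun x => τ ((g.val *ᵥ v) x) := by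
  funext x
  simp [coe_glMap, Matrix.mulVec, dotProduct, map_sum, map_mul]

omit hσ in
theorem map_bv (τ : k →+* k) (c : ℕ) : (fun x => τ (bv D k c x)) = bv D k c := by
  funext x; simp [bv, apply_ite τ]

omit hσ in
theorem glMap_one (τ : k →+* k) (r : ℕ) : glMap D τ (xg X.hh r (1 : k)) = xg X.hh r 1 := by
  rw [glMap_xg, map_one]

include hlow in
theorem killed_column (hneg : chkNegLong D C = true) {g : GL D.Idx k} (hg : g ∈ X.H) :
    Killed D C S ((fun x => σ ((g.val *ᵥ bv D k (top D)) x)) - g.val *ᵥ bv D k (top D)) := by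
  set v := g.val *ᵥ bv D k (top D) with hv
  set d := (fun x => σ (v x)) - v with hd
  have hlong : ∀ w : List ℕ, (∀ a ∈ w, a < D.nroots) → ∀ β < D.nroots, isLong D C β = true →
      co ((w.map fun a => xg X.hh a (1 : k)).prod.val *ᵥ d) β = 0 := by
    intro w hw β hβ hl
    set W := (w.map fun a => xg X.hh a (1 : k)).prod with hW
    have hWH : W ∈ X.H := list_prod_mem fun z hz => by
      obtain ⟨a, ha, rfl⟩ := List.mem_map.1 hz
      exact X.ones a (hw a ha)
    have hWfix : glMap D σ W = W := by
      rw [hW, map_list_prod, List.map_map]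
      congr 1
      exact List.map_congr_left fun a _ => X.glMap_one σ a
    rw [hd, Matrix.mulVec_sub, co_sub]
    conv_lhs => arg 1; rw [← hWfix, X.map_mulVec, X.map_co]
    rw [hv, Matrix.mulVec_mulVec, ← Units.val_mul]
    exact sub_eq_zero.2 ((hσ _).2 (X.long_coord_mem hlow β hβ hl _ (mul_mem hWH hg)))
  have hlong0 : ∀ β < D.nroots, isLong D C β = true → co d β = 0 := fun β hβ hl => by
    simpa using hlong [] (by simp) β hβ hl
  have hshort : ∀ (w : List ℕ), (∀ a ∈ w, a < D.nroots) → (S.e : k) ≠ 0 → ∀ r < D.nroots,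
      co ((w.map fun a => xg X.hh a (1 : k)).prod.val *ᵥ d) r = 0 := by
    intro w hw he r hr
    set d' := (w.map fun a => xg X.hh a (1 : k)).prod.val *ᵥ d with hd'
    by_cases hl : isLong D C r = true
    · exact hlong w hw r hr hl
    have hsh := X.short0_short hr (Bool.eq_false_iff.2 hl)
    have hb := X.ok.sol_ok
    simp only [chkSol, Bool.or_eq_true, Bool.and_eq_true, allN_iff, List.any_eq_true, List.all_eq_true, natBeq_eq,
      decide_eq_true_eq, Nat.blt_eq] at hb
    rcases hb with e0 | hb
    · exact absurd e0 hsh.1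
    rcases hb r hr with e0 | ⟨p, -, ⟨-, hp1⟩, hp2⟩
    · exact absurd e0 hl
    have hzero : ∀ x ∈ p.2, co ((x.2.1.map fun a => xg X.hh a (1 : k)).prod.val *ᵥ d') x.2.2 = 0 := by
      intro x hx
      obtain ⟨⟨hb1, hb2⟩, hb3⟩ := hp1 x hx
      rw [hd', Matrix.mulVec_mulVec, ← Units.val_mul, ← List.prod_append, ← List.map_append]
      exact hlong _ (fun a ha => (List.mem_append.1 ha).elim (hb3 a) (hw a)) _ hb1 hb2
    have hlong' : ∀ c < D.nroots, isLong D C c = true → co d' c = 0 := fun c hc hlc => hlong w hw c hc hlc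
    have hsum : ∀ (l : List (ℤ × List ℕ × ℕ)), (∀ x ∈ l, x ∈ p.2) →
        ∑ c ∈ Finset.range (D.nroots + D.rank),
          (((l.map fun x => x.1 * rowOf D C x.2.1 x.2.2 c).sum : ℤ) : k) * co d' c = 0 := by
      intro l
      induction l with
      | nil => simp
      | cons x l ih =>
        intro hl
        simp only [List.map_cons, List.sum_cons, Int.cast_add, Int.cast_mul, add_mul, Finset.sum_add_distrib,
          mul_assoc, ← Finset.mul_sum, ih fun y hy => hl y (List.mem_cons_of_mem _ hy), add_zero]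
        have hx := hl x List.mem_cons_self
        obtain ⟨⟨hb1, -⟩, hb3⟩ := hp1 x hx
        rw [← co_word X.hh x.2.1 hb3 (by omega) d', hzero x hx, mul_zero]
    have h0 := hsum p.2 fun x hx => hx
    rw [Finset.sum_eq_single r] at h0
    · refine (mul_eq_zero.1 h0).resolve_left fun e1 => he ?_
      rcases hp2 r (by omega) with ⟨-, w'⟩ | w'
      · exact absurd w' hl
      · rw [if_pos rfl] at w'
        rcases Int.natAbs_eq ((p.2.map fun x => x.1 * rowOf D C x.2.1 x.2.2 r).sum) with w2 | w2 <;>
          rw [w2, w'] at e1 <;> simpa using e1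
    · intro c hc hne
      rcases hp2 c (Finset.mem_range.1 hc) with ⟨a, b⟩ | w'
      · rw [hlong' c a b, mul_zero]
      · rw [if_neg hne, Int.natAbs_eq_zero] at w'
        rw [w']; simp
    · intro h; exact absurd (Finset.mem_range.2 (by omega)) h
  have hroot : ∀ r < D.nroots, isLong D C r = true ∨ (S.e : k) ≠ 0 → co d r = 0 := fun r hr h => by
    rcases h with hl | he
    · exact hlong0 r hr hl
    · simpa using hshort [] (by simp) he r hr
  refine ⟨hroot, fun a ha hal => ?_⟩
  have h1 : co ((xg X.hh a (1 : k)).val *ᵥ d) a = 0 := by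
    rcases hal with hl | he
    · simpa using hlong [a] (by simpa using ha) a ha hl
    · simpa using hshort [a] (by simpa using ha) he a ha
  rw [X.co_xg_root ha ha hal 1 hroot, if_pos rfl, one_mul, hroot a ha hal, zero_sub, neg_eq_zero] at h1
  exact h1

include hlow in
/-- The highest column of an element of `H` is fixed. -/
theorem column_top_fix (hneg : chkNegLong D C = true) {g : GL D.Idx k} (hg : g ∈ X.H) :
    (glMap D σ g).val *ᵥ bv D k (top D) = g.val *ᵥ bv D k (top D) := by
  set eT := bv D k (top D) with heT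
  have hK := X.killed_group hneg (inv_mem (X.le hg)) (X.killed_column hσ hlow hneg hg)
  set z := g⁻¹ * glMap D σ g with hz
  have hzg : z ∈ D.group k :=
    mul_mem (inv_mem (X.le hg)) (glMap_group_le σ (Subgroup.mem_map_of_mem _ (X.le hg)))
  have hcol : (fun x => σ ((g.val *ᵥ eT) x)) = (glMap D σ g).val *ᵥ eT := by
    rw [← X.map_mulVec σ g eT, heT, X.map_bv]
  have hdiff : g⁻¹.val *ᵥ ((fun x => σ ((g.val *ᵥ eT) x)) - g.val *ᵥ eT) = z.val *ᵥ eT - eT := by
    rw [hcol, Matrix.mulVec_sub, Matrix.mulVec_mulVec, Matrix.mulVec_mulVec, ← Units.val_mul, ← Units.val_mul,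
      inv_mul_cancel, Units.val_one, Matrix.one_mulVec]
  rw [hdiff] at hK
  obtain ⟨w, hw, β, hβ, hβl, χ, hχ, -, hvec⟩ := X.col_top hzg
  have hco := hK.root β hβ (Or.inl hβl)
  have h1 : co (w.val *ᵥ bv D k β) β = 1 := by
    obtain ⟨y, hy⟩ := exists_idxCode (D := D) (c := β) (by omega)
    rw [← hy, co_idx, mulVec_bv]
    by_contra hne
    have := X.hh.toChecked.raises_of_mem_posUnipotent hw y y
      (by rw [Matrix.sub_apply, Matrix.one_apply_eq, sub_ne_zero]; exact hne)
    omega
  have hTlt := X.top_lt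
  rw [co_sub, heT, co_bv (by omega), hvec, co_smul, h1, mul_one] at hco
  have hTb : β = top D := by
    by_contra hne
    rw [if_neg (Ne.symm hne), sub_zero] at hco
    exact hχ hco
  subst hTb
  rw [if_pos rfl, sub_eq_zero] at hco
  rw [X.pos_fix_top hw, hco, one_smul] at hvec
  have := congrArg (fun v => g.val *ᵥ v) hvec
  rwa [Matrix.mulVec_mulVec, ← Units.val_mul, hz, mul_inv_cancel_left] at this

include hlow in
/-- Every entry of an element of `H` lies in `A`. -/
theorem entries_mem (hneg : chkNegLong D C = true) {g : GL D.Idx k} (hg : g ∈ X.H) (i j : D.Idx) :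
    g.val i j ∈ X.A := by
  have h := X.hh.toChecked
  let P : (D.Idx → k) → Prop := fun v => ∀ g ∈ X.H, (glMap D σ g).val *ᵥ v = g.val *ᵥ v
  have hPsub : ∀ {v w}, P v → P w → P (v - w) := fun hv hw g hg => by
    rw [Matrix.mulVec_sub, Matrix.mulVec_sub, hv g hg, hw g hg]
  have hPadd : ∀ {v w}, P v → P w → P (v + w) := fun hv hw g hg => by
    rw [Matrix.mulVec_add, Matrix.mulVec_add, hv g hg, hw g hg]
  have hPsmul : ∀ {v} (a : k), P v → P (a • v) := fun a hv g hg => by
    rw [Matrix.mulVec_smul, Matrix.mulVec_smul, hv g hg]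
  have hPmove : ∀ {v} (l : GL D.Idx k), l ∈ X.H → glMap D σ l = l → P v → P (l.val *ᵥ v) := fun {v} l hl he hv g hg => by
    rw [Matrix.mulVec_mulVec, Matrix.mulVec_mulVec, ← Units.val_mul, ← Units.val_mul, ← he, ← map_mul,
      hv _ (mul_mem hg hl), he]
  have hPx : ∀ {v} {r}, r < D.nroots → P v → P ((xg X.hh r (1 : k)).val *ᵥ v) :=
    fun {v} {r} hr hv => hPmove _ (X.ones r hr) (X.glMap_one σ r) hv
  have hPT : P (bv D k (top D)) := fun g hg => X.column_top_fix hσ hlow hneg hg
  have hrefl : ∀ i < D.rank, ∀ r < D.nroots, P (bv D k (refl C i r)) ↔ P (bv D k r) := by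
    intro i hi r hr
    have hmove : ∀ r < D.nroots, P (bv D k r) → P (bv D k (refl C i r)) := by
      intro r hr hv
      have h1 := hPmove _ (X.nS_mem hi) (glMap_nS h σ i) hv
      rw [coe_nS _ hi, h.nMat_bv_root hi hr] at h1
      rcases eta_cases (C := C) i r with w | w
      · simpa [w] using h1
      · simpa [w] using hPsmul (-1 : k) h1
    refine ⟨fun hv => ?_, hmove r hr⟩
    have := hmove _ (h.refl_lt hi hr) hv
    rwa [(h.refl_spec hi hr).2.2.1] at this
  have hlow' : ∀ r < D.nroots, isLong D C r = true → (P (bv D k r) ↔ P (bv D k 0)) := by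
    intro r
    induction r using Nat.strong_induction_on with
    | _ r ih =>
      intro hr hl
      by_cases h0 : r = 0
      · subst h0; rfl
      obtain ⟨i, hi, hlt⟩ := X.exists_lower hr (by rw [if_pos hl]; exact h0)
      rw [← hrefl i hi r hr, ih _ hlt (h.refl_lt hi hr) (by rw [X.long_refl hi hr, hl])]
  have hPlong : ∀ r < D.nroots, isLong D C r = true → P (bv D k r) := fun r hr hl =>
    (hlow' r hr hl).2 ((hlow' _ X.top_lt X.long_top).1 hPT)
  have hneg' : ∀ r < D.nroots, isLong D C r = isLong D C (ng D r) := by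
    simpa only [chkNegLong, allN_iff, beq_iff_eq] using hneg
  have hxh : ∀ s < D.nroots, (xg X.hh s (1 : k)).val *ᵥ bv D k (ng D s) =
      bv D k (ng D s) + corVec D C k s - bv D k s := by
    intro s hs
    obtain ⟨a1, a2, a3⟩ := h.eCol_opp hs
    have := Checked.ng_lt (D := D) hs
    rw [coe_xg, h.x_mulVec_bv hs (by omega), Finset.sum_range_succ', Finset.sum_range_succ',
      Finset.sum_range_succ']
    simp [show eCol D C s (ng D s) 0 = [(ng D s, 1)] from rfl, a1, a2, a3 0, evalC_singleton, evalC_nil, evalC_one, evalC_map, corVec]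
    abel
  have hcor : ∀ s < D.nroots, P (bv D k s) → P (bv D k (ng D s)) → P (corVec D C k s) := by
    intro s hs h1 h2
    have h3 := hPx hs h2
    rw [hxh s hs] at h3
    have := hPadd (hPsub h3 h2) h1
    rwa [show bv D k (ng D s) + corVec D C k s - bv D k s - bv D k (ng D s) + bv D k s = corVec D C k s by
      abel] at this
  have hPshort : ∀ c < D.nroots, P (bv D k c) := by
    intro c hc
    by_cases hl : isLong D C c = true
    · exact hPlong c hc hl
    have hsh := X.short0_short hc (Bool.eq_false_iff.2 hl)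
    have hb := X.ok.odd_ok
    simp only [chkOdd, Bool.or_eq_true, Bool.and_eq_true, allN_iff, List.any_eq_true, List.mem_range, natBeq_eq,
      decide_eq_true_eq] at hb
    rcases hb with e0 | hb
    · exact absurd e0 hsh.1
    rcases hb c hc with e0 | ⟨s, hs, hsl, hp⟩
    · exact absurd e0 hl
    have hH := hcor s hs (hPlong s hs hsl) (hPlong _ (Checked.ng_lt hs) (by rw [← hneg' s hs, hsl]))
    have hxH : (xg X.hh c (1 : k)).val *ᵥ corVec D C k s =
        corVec D C k s - (pairI D C s c : k) • bv D k c := by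
      rw [corVec, Matrix.mulVec_sum, pairI, zsum_eq, Int.cast_sum, Finset.sum_smul, ← Finset.sum_sub_distrib]
      refine Finset.sum_congr rfl fun i hi => ?_
      obtain ⟨-, e1, e2⟩ := h.eCol_h (r := c) (j := i)
      rw [Matrix.mulVec_smul, coe_xg, h.x_mulVec_bv hc (by have := Finset.mem_range.1 hi; omega),
        Finset.sum_range_succ', Finset.sum_range_succ', Finset.sum_range_succ']
      simp [show eCol D C c (D.nroots + i) 0 = [(D.nroots + i, 1)] from rfl, e1, e2, evalC_singleton, evalC_nil, evalC_one, smul_smul, sub_eq_add_neg]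
      abel
    have h3 := hPsub hH (hPx hc hH)
    rw [hxH, sub_sub_cancel] at h3
    rcases Int.natAbs_eq (pairI D C s c) with w | w <;> rw [w, hp] at h3
    · simpa using h3
    · simpa using hPsmul (-1 : k) h3
  have hall : ∀ c < D.nroots + D.rank, P (bv D k c) := by
    intro c hc
    by_cases hcn : c < D.nroots
    · exact hPshort c hcn
    obtain ⟨i, rfl⟩ := Nat.exists_eq_add_of_le (Nat.le_of_not_lt hcn)
    have hi : i < D.rank := by omega
    have hs := h.simple_lt hi
    have := hcor _ hs (hPshort _ hs) (hPshort _ (Checked.ng_lt hs))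
    rw [corVec, Finset.sum_eq_single i] at this
    · simpa [(h.simple_tab hi hi).2.2] using this
    · intro l hl hne
      rw [(h.simple_tab hi (Finset.mem_range.1 hl)).2.2, if_neg (Ne.symm hne)]; simp
    · intro hn; exact absurd (Finset.mem_range.2 hi) hn
  have := congrFun (hall (idxCode D j) (idxCode_lt j) g hg) i
  rw [mulVec_bv, mulVec_bv] at this
  exact (hσ _).1 this

end Ctx

end Cfsg.Agent.Lib.ChevOver
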