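import Cfsg.Agent.Lib.ChevOver.Field
import Cfsg.Agent.Lib.LinGroup.SLTwoPrimeField

/-!
The frame attached to an element of a finite subgroup: a conjugate containing the root elements of weight one
together with an opposite root element.
-/

set_option autoImplicit false

namespace Cfsg.Agent.Lib.ChevOver

open Cfsg.Lie Cfsg.Agent.Lib.Chev Cfsg.Agent.Lib.ChevField
open scoped Matrix MatrixGroups

variable {D : ChevalleyDatum} {C : Cert} {S : SubCert} {k : Type*} [Field k]

/-- The unipotent radical attached to the highest root. -/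
def radical (D : ChevalleyDatum) (C : Cert) (k : Type*) [Field k] : Subgroup (GL D.Idx k) :=
  rootGen D k {r | r ∈ posSet D ∧ qIn D C r = true}

theorem mem_of_comm {G : Type*} [Group G] {K : Subgroup G} {a b z : G} (ha : a ∈ K) (hb : b ∈ K)
    (e : b * a = a * b * z) : z ∈ K := by
  have := mul_mem (inv_mem (mul_mem ha hb)) (mul_mem hb ha)
  rwa [e, inv_mul_cancel_left] at this

theorem conj_involutions {G : Type*} [Group G] {x y : G} (hx : x * x = 1) (hy : y * y = 1) {j : ℕ}
    (h : (x * y) ^ (2 * j + 1) = 1) : (x * y) ^ j * x = y * (x * y) ^ j := by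
  have hc : x * (x * y) * x⁻¹ = (x * y)⁻¹ := by
    rw [mul_inv_rev, inv_eq_of_mul_eq_one_right hx, inv_eq_of_mul_eq_one_right hy, ← mul_assoc, hx, one_mul]
  have h1 : x * (x * y) ^ j = ((x * y) ^ j)⁻¹ * x := by
    rw [← inv_pow, ← hc, conj_pow, inv_mul_cancel_right]
  have h2 : ((x * y) ^ j)⁻¹ = (x * y) ^ (j + 1) := by
    rw [inv_eq_iff_mul_eq_one, ← pow_add, show j + (j + 1) = 2 * j + 1 by ring, h]
  calc (x * y) ^ j * x = x * (x * (x * y) ^ j * x) := by rw [← mul_assoc x, ← mul_assoc x, hx, one_mul]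
    _ = x * ((x * y) ^ j)⁻¹ := by rw [h1, mul_assoc _ x x, hx, mul_one]
    _ = x * (x * y) ^ (j + 1) := by rw [h2]
    _ = y * (x * y) ^ j := by rw [pow_succ', ← mul_assoc x, ← mul_assoc x, hx, one_mul]

/-! ### Two by two matrices -/

section SL2

open RankOneData

/-- The diagonal matrix as a word in the unipotent generators. -/
def diagW (c : kˣ) : SL(2, k) :=
  upper (c : k) * lower (-(c : k)⁻¹) * upper (c : k) * (upper (-1) * lower 1 * upper (-1))

theorem diagW_entries (c : kˣ) :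
    diagW c 0 0 = (c : k) ∧ diagW c 0 1 = 0 ∧ diagW c 1 0 = 0 ∧ diagW c 1 1 = (c : k)⁻¹ := by
  have := c.ne_zero
  refine ⟨?_, ?_, ?_, ?_⟩ <;> simp [diagW, mul_entry, upper_entries, lower_entries] <;> field_simp <;> ring

theorem diagW_neg_one : diagW (-1 : kˣ) = -1 := by
  obtain ⟨a, b, c, d⟩ := diagW_entries (-1 : kˣ)
  refine sl_ext ?_ ?_ ?_ ?_ <;> simp [a, b, c, d]

theorem diagW_upper (c : kˣ) (t : k) : diagW c * upper t = upper ((c : k) ^ 2 * t) * diagW c := by
  obtain ⟨a, b, e, d⟩ := diagW_entries c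
  have := c.ne_zero
  refine sl_ext ?_ ?_ ?_ ?_ <;> simp [mul_entry, upper_entries, a, b, e, d] <;> field_simp

/-- Induction along the unipotent generators. -/
theorem sl_induction {P : SL(2, k) → Prop} (hu : ∀ t, P (upper t)) (hl : ∀ t, P (lower t))
    (hm : ∀ g h, P g → P h → P (g * h)) (h : SL(2, k)) : P h := by
  have key : ∀ g : SL(2, k), g 1 0 ≠ 0 → P g := by
    intro g hc
    have hd := det_eq g
    have e : g = upper ((g 0 0 - 1) / g 1 0) * lower (g 1 0) * upper ((g 1 1 - 1) / g 1 0) := by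
      refine sl_ext ?_ ?_ ?_ ?_ <;> simp only [mul_entry, upper_entries, lower_entries]
      · field_simp; ring
      · field_simp; linear_combination -hd
      · ring
      · field_simp; ring
    rw [e]
    exact hm _ _ (hm _ _ (hu _) (hl _)) (hu _)
  by_cases hc : h 1 0 = 0
  · have hd := det_eq h
    rw [hc] at hd
    have e : h = h * lower 1 * lower (-1) := by
      refine sl_ext ?_ ?_ ?_ ?_ <;> simp [mul_entry, lower_entries]
    rw [e]
    refine hm _ _ (key _ ?_) (hl _)
    intro e1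
    simp [mul_entry, lower_entries, hc] at e1
    simp [e1] at hd
  · exact key h hc

theorem coe_add_inv (M : SL(2, k)) :
    ((M : Matrix (Fin 2) (Fin 2) k) + ((M⁻¹ : SL(2, k)) : Matrix (Fin 2) (Fin 2) k)) =
      (M 0 0 + M 1 1) • (1 : Matrix (Fin 2) (Fin 2) k) := by
  rw [Matrix.SpecialLinearGroup.coe_inv, Matrix.adjugate_fin_two]
  ext i j
  fin_cases i <;> fin_cases j <;> simp [add_comm]

theorem trace_pow (p : ℕ) [Fact p.Prime] [CharP k p] (M : SL(2, k)) (a : ℕ) :
    ((M ^ p ^ a : SL(2, k)) : Matrix (Fin 2) (Fin 2) k) + ((M⁻¹ ^ p ^ a : SL(2, k)) : Matrix (Fin 2) (Fin 2) k) =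
      ((M 0 0 + M 1 1) ^ p ^ a) • (1 : Matrix (Fin 2) (Fin 2) k) := by
  rw [Matrix.SpecialLinearGroup.coe_pow, Matrix.SpecialLinearGroup.coe_pow, ← add_pow_char_pow_of_commute,
    coe_add_inv, smul_pow, one_pow]
  show _ * _ = _ * _
  rw [← Matrix.SpecialLinearGroup.coe_mul, ← Matrix.SpecialLinearGroup.coe_mul, mul_inv_cancel, inv_mul_cancel]

theorem odd_order_of_trace [CharP k 2] {g : SL(2, k)} (hg : IsOfFinOrder g) (htr : g 0 0 ≠ g 1 1) :
    ∃ j, g ^ (2 * j + 1) = 1 := by
  rcases Nat.even_or_odd (orderOf g) with ⟨m, hm⟩ | ⟨j, hj⟩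
  swap
  · exact ⟨j, by rw [← hj, pow_orderOf_eq_one]⟩
  exfalso
  have hpos := hg.orderOf_pos
  set y := g ^ m with hy
  have hy2 : y * y = 1 := by rw [hy, ← pow_add, ← hm, pow_orderOf_eq_one]
  have hy1 : y ≠ 1 := pow_ne_one_of_lt_orderOf (by omega) (by omega)
  have hcomm : g * y = y * g := (Commute.self_pow g m).eq
  have e01 := congrArg (fun z : SL(2, k) => z 0 1) hy2
  have e10 := congrArg (fun z : SL(2, k) => z 1 0) hy2
  have e00 := congrArg (fun z : SL(2, k) => z 0 0) hy2
  have e11 := congrArg (fun z : SL(2, k) => z 1 1) hy2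
  have f01 := congrArg (fun z : SL(2, k) => z 0 1) hcomm
  have f10 := congrArg (fun z : SL(2, k) => z 1 0) hcomm
  simp only [mul_entry, Matrix.SpecialLinearGroup.coe_one, Matrix.one_apply_ne (show (0 : Fin 2) ≠ 1 by decide),
    Matrix.one_apply_ne (show (1 : Fin 2) ≠ 0 by decide), Matrix.one_apply_eq] at e01 e10 e00 e11 f01 f10
  have hd : y 0 0 = y 1 1 := by
    by_contra hne
    have hs : y 0 0 + y 1 1 ≠ 0 := fun e => hne (CharTwo.add_eq_zero.1 e)
    have hb : y 0 1 = 0 := (mul_eq_zero.1 (show y 0 1 * (y 0 0 + y 1 1) = 0 by linear_combination e01)).resolve_right hs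
    have hc : y 1 0 = 0 := (mul_eq_zero.1 (show y 1 0 * (y 0 0 + y 1 1) = 0 by linear_combination e10)).resolve_right hs
    have h0 : y 0 0 = 1 := CharTwo.sq_injective (by show y 0 0 ^ 2 = 1 ^ 2; rw [hb] at e00; linear_combination e00)
    have h1 : y 1 1 = 1 := CharTwo.sq_injective (by show y 1 1 ^ 2 = 1 ^ 2; rw [hb] at e11; linear_combination e11)
    exact hne (h0.trans h1.symm)
  have hbc : y 0 1 ≠ 0 ∨ y 1 0 ≠ 0 := by
    by_contra hcon
    push Not at hcon
    refine hy1 ?_
    have h0 : y 0 0 = 1 := CharTwo.sq_injective (by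
      show y 0 0 ^ 2 = 1 ^ 2; rw [hcon.1] at e00; linear_combination e00)
    refine sl_ext ?_ ?_ ?_ ?_ <;> simp [hcon.1, hcon.2, ← hd, h0]
  rcases hbc with w | w
  · exact htr (mul_left_cancel₀ w (by linear_combination f01 + g 0 1 * hd))
  · exact htr (mul_left_cancel₀ w (by linear_combination -f10 + g 1 0 * hd))

end SL2

namespace Ctx

variable (X : Ctx D C S k)
include X

theorem radical_le_pos : radical D C k ≤ D.posUnipotent k :=
  by rw [X.hh.toChecked.posUnipotent_eq]; exact rootGen_mono fun _ h => h.1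

theorem exists_radical_conj {g : GL D.Idx k} (hg : g ∈ X.H) (hc : co (g.val *ᵥ bv D k (top D)) 0 ≠ 0) :
    ∃ u ∈ radical D C k, u * xg X.hh 0 (co (g.val *ᵥ bv D k (top D)) 0) * u⁻¹ ∈ X.H := by
  obtain ⟨v, hv, β, hβ, -, χ, hχ, hconj, hvec⟩ := X.col_top (X.le hg)
  have e0 : co (g.val *ᵥ bv D k (top D)) 0 = χ * (if β = 0 then 1 else 0) := by
    rw [hvec, co_smul, X.pos_row_zero hv, co_bv (by have := X.nroots_pos; omega)]
  have hβ0 : β = 0 := by
    by_contra hne
    rw [if_neg hne, mul_zero] at e0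
    exact hc e0
  rw [hβ0, if_pos rfl, mul_one] at e0
  rw [e0]
  obtain ⟨a, ha, b, hb, e⟩ := X.hh.toChecked.exists_split {r | qIn D C r = true} (inv_mem hv)
  refine ⟨b⁻¹, inv_mem hb, ?_⟩
  have hacomm : Commute a (xg X.hh 0 χ) := by
    clear e
    induction ha using Subgroup.closure_induction with
    | mem a ha =>
      obtain ⟨r, s, ⟨hr, hq⟩, e'⟩ := ha
      rw [show a = xg X.hh r s from Units.ext (by rw [coe_xg]; exact e')]
      have hb' := X.ok.height_ok
      simp only [chkHeight, Bool.and_eq_true, allN_iff, Bool.or_eq_true, Bool.not_eq_true',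
        List.isEmpty_iff] at hb'
      have h2 := X.hh.toChecked.two_mul_half
      have := (hb'.2 (r - D.nroots / 2) (by have := hr.1; have := hr.2; omega)).1.2
      rw [show D.nroots / 2 + (r - D.nroots / 2) = r by have := hr.1; omega] at this
      rcases this with e'' | ⟨hne, e''⟩
      · exact absurd e'' hq
      · refine xg_commute _ hr.2 X.nroots_pos (fun e1 => ?_) e'' s χ
        have : r = top D := by rw [← Checked.ng_ng (D := D) hr.2, ← e1, X.ng_zero]
        simp [this] at hne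
    | one => exact Commute.one_left _
    | mul a b _ _ ha hb => exact ha.mul_left hb
    | inv a _ ha => exact ha.inv_left
  have h1 := mul_mem (mul_mem hg (X.ones _ X.top_lt)) (inv_mem hg)
  rw [hconj 1, mul_one, hβ0] at h1
  have ev : v = b⁻¹ * a⁻¹ := by rw [← mul_inv_rev, ← e, inv_inv]
  rw [ev] at h1
  rw [show b⁻¹ * a⁻¹ * xg X.hh 0 χ * (b⁻¹ * a⁻¹)⁻¹ = b⁻¹ * (a⁻¹ * xg X.hh 0 χ * a) * b by group,
    (hacomm.inv_left).eq, mul_assoc _ a⁻¹, inv_mul_cancel, mul_one] at h1
  rw [inv_inv]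
  exact h1

theorem wOne_spec {w : ℕ} (hw : w ∈ S.wOne) : D.nroots / 2 ≤ w ∧ w < top D ∧ w < D.nroots := by
  have := X.ok.wOne_ok
  simp only [chkWOne, List.all_eq_true, Bool.and_eq_true, qIn, Nat.blt_eq, Nat.ble_eq] at this
  obtain ⟨a, b, -⟩ := this w hw
  exact ⟨b, a, a.trans X.top_lt⟩

theorem pos_comm_top {w : ℕ} (hw : D.nroots / 2 ≤ w) (hwn : w < D.nroots) (a t : k) :
    Commute (xg X.hh w a) (xg X.hh (top D) t) :=
  X.pos_commute_top (xg_mem_pos X.hh hwn hw a) t

/-- The radical moves a root element of weight one along the highest root. -/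
theorem exists_shift {u : GL D.Idx k} (hu : u ∈ radical D C k) {w : ℕ} (hw : w ∈ S.wOne) :
    ∃ s : k, ∀ a : k, u⁻¹ * xg X.hh w a * u = xg X.hh w a * xg X.hh (top D) (a * s) := by
  obtain ⟨hw1, hw2, hwn⟩ := X.wOne_spec hw
  induction hu using Subgroup.closure_induction with
  | mem u hu =>
    obtain ⟨r, τ, ⟨hr, hq⟩, e'⟩ := hu
    rw [show u = xg X.hh r τ from Units.ext (by rw [coe_xg]; exact e')]
    have hb' := X.ok.height_ok
    simp only [chkHeight, Bool.and_eq_true, allN_iff, Bool.or_eq_true, Bool.not_eq_true',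
      List.all_eq_true] at hb'
    have h2 := X.hh.toChecked.two_mul_half
    have := (hb'.2 (r - D.nroots / 2) (by have := hr.1; have := hr.2; omega)).2
    rw [show D.nroots / 2 + (r - D.nroots / 2) = r by have := hr.1; omega] at this
    rcases this with e'' | e''
    · exact absurd hq (by simp [e''])
    rcases e'' w hw with erw | ⟨hne, hcen⟩
    · rw [natBeq_eq, decide_eq_true_eq] at erw
      subst erw
      exact ⟨0, fun a => by rw [mul_zero, xg_zero, mul_one, xg_inv, xg_add, xg_add]; congr 1; ring⟩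
    have hne' : w ≠ ng D r := fun e1 => by
      rw [e1, Checked.ng_ng hr.2] at hne
      simp at hne
    rcases eq_or_ne w r with rfl | hwr
    · exact ⟨0, fun a => by rw [mul_zero, xg_zero, mul_one, xg_inv, xg_add, xg_add]; congr 1; ring⟩
    unfold centralTerms at hcen
    split at hcen
    · rename_i hl
      exact ⟨0, fun a => by
        rw [mul_zero, xg_zero, mul_one, mul_assoc, ← (xg_commute X.hh hr.2 hwn hne' hl τ a).eq,
          inv_mul_cancel_left]⟩
    · rename_i k' M hl
      rw [natBeq_eq, decide_eq_true_eq] at hcen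
      subst hcen
      refine ⟨(M : k) * -τ, fun a => ?_⟩
      rw [mul_assoc, xg_comm_one X.hh hr.2 hwn hwr hne' hl, mul_assoc (xg X.hh r τ), inv_mul_cancel_left]
      congr 2
      ring
    · exact absurd hcen (by simp)
  | one => exact ⟨0, fun a => by simp [xg_zero]⟩
  | mul u v hu' hv' ihu ihv =>
    obtain ⟨s, hs⟩ := ihu
    obtain ⟨s', hs'⟩ := ihv
    refine ⟨s' + s, fun a => ?_⟩
    have hc := X.pos_commute_top (X.radical_le_pos hv') (a * s)
    calc (u * v)⁻¹ * xg X.hh w a * (u * v) = v⁻¹ * (u⁻¹ * xg X.hh w a * u) * v := by group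
      _ = v⁻¹ * xg X.hh w a * v * xg X.hh (top D) (a * s) := by
        rw [hs, mul_assoc _ v (xg X.hh (top D) (a * s)), hc.eq]; group
      _ = _ := by rw [hs', mul_assoc, xg_add, ← mul_add]
  | inv u hu' ihu =>
    obtain ⟨s, hs⟩ := ihu
    refine ⟨-s, fun a => ?_⟩
    have hc := X.pos_commute_top (X.radical_le_pos hu') (a * s)
    have e : xg X.hh w a = u * xg X.hh w a * u⁻¹ * xg X.hh (top D) (a * s) := by
      calc xg X.hh w a = u * (u⁻¹ * xg X.hh w a * u) * u⁻¹ := by group
        _ = _ := by rw [hs, ← mul_assoc, mul_assoc _ (xg X.hh (top D) (a * s)) u⁻¹, hc.symm.inv_right.eq]; group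
    rw [inv_inv]
    conv_rhs => rw [e]
    rw [mul_assoc (u * xg X.hh w a * u⁻¹), xg_add, mul_neg, add_neg_cancel, xg_zero, mul_one]

/-- The conjugate of `H` by an element of the radical. -/
def conjH (u : GL D.Idx k) : Subgroup (GL D.Idx k) := X.H.comap (MulAut.conj u).toMonoidHom

theorem mem_conjH {u z : GL D.Idx k} : z ∈ X.conjH u ↔ u * z * u⁻¹ ∈ X.H := Iff.rfl

theorem finite_conjH (u : GL D.Idx k) : Finite ↥(X.conjH u) := by
  haveI := X.finite
  exact Finite.of_injective (fun z : ↥(X.conjH u) => (⟨u * z.1 * u⁻¹, z.2⟩ : ↥X.H)) fun a b e =>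
    Subtype.ext (by simpa using congrArg Subtype.val e)

theorem top_mem_conjH {u : GL D.Idx k} (hu : u ∈ radical D C k) {t : k} :
    xg X.hh (top D) t ∈ X.conjH u ↔ t ∈ X.A := by
  rw [X.mem_conjH, (X.pos_commute_top (X.radical_le_pos hu) t).eq, mul_inv_cancel_right, X.mem_A]

theorem wOne_mem_conjH {u : GL D.Idx k} {w : ℕ} {s a : k}
    (hs : ∀ a : k, u⁻¹ * xg X.hh w a * u = xg X.hh w a * xg X.hh (top D) (a * s)) (ha : xg X.hh w a ∈ X.H) :
    xg X.hh w a * xg X.hh (top D) (a * s) ∈ X.conjH u := by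
  rw [← hs, X.mem_conjH, show u * (u⁻¹ * xg X.hh w a * u) * u⁻¹ = xg X.hh w a by group]
  exact ha

/-- The homomorphism from `SL₂` attached to the highest root. -/
theorem exists_phi : ∃ φ : SL(2, k) →* GL D.Idx k, (∀ t, φ (RankOneData.upper t) = xg X.hh (top D) t) ∧
    ∀ t, φ (RankOneData.lower t) = xg X.hh 0 t := by
  obtain ⟨φ, -, h⟩ := X.hh.hasSL2 (F := k) X.etaOK (top D) X.top_lt X.top_lt
  refine ⟨φ, fun t => by rw [(h t).1, xg_eq _ X.top_lt], fun t => Units.ext ?_⟩
  rw [(h t).2, coe_xg]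
  show D.x k (ng D (top D)) t = _
  rw [X.ng_top]

variable {φ : SL(2, k) →* GL D.Idx k} (hU : ∀ t, φ (RankOneData.upper t) = xg X.hh (top D) t)
  (hL : ∀ t, φ (RankOneData.lower t) = xg X.hh 0 t)
include hU hL

theorem phi_diag (c : kˣ) : φ (diagW c) = hElem D C (top D) c := by
  refine Units.ext ?_
  rw [hElem, ← X.hh.hMat_torus X.top_lt c]
  simp [diagW, hU, hL, coe_xg, ChevalleyDatum.hMat, ChevalleyDatum.hWord, ChevalleyDatum.nWord,
    ChevalleyDatum.wordMat, X.hh.toChecked.neg_eq X.top_lt, X.ng_top, mul_assoc]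

theorem phi_lowerLeft {z : SL(2, k)} (hz : φ z = 1) : z 1 0 = 0 := by
  by_contra hc
  have hd := RankOneData.det_eq z
  have e : z = RankOneData.upper ((z 0 0 - 1) / z 1 0) * RankOneData.lower (z 1 0) *
      RankOneData.upper ((z 1 1 - 1) / z 1 0) := by
    refine RankOneData.sl_ext ?_ ?_ ?_ ?_ <;>
      simp only [RankOneData.mul_entry, RankOneData.upper_entries, RankOneData.lower_entries]
    · field_simp; ring
    · field_simp; linear_combination -hd
    · ring
    · field_simp; ring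
  rw [e, map_mul, map_mul, hU, hU, hL] at hz
  have hpos : ∀ t : k, xg X.hh (top D) t ∈ D.posUnipotent k := xg_mem_pos _ X.top_lt X.half_le_top
  have h0 : xg X.hh 0 (z 1 0) ∈ D.posUnipotent k := by
    have := mul_mem (mul_mem (inv_mem (hpos ((z 0 0 - 1) / z 1 0))) (one_mem (D.posUnipotent k)))
      (inv_mem (hpos ((z 1 1 - 1) / z 1 0)))
    rw [← hz] at this
    simpa [mul_assoc] using this
  have hn : xg X.hh 0 (z 1 0) ∈ D.negUnipotent k := by
    rw [X.hh.toChecked.negUnipotent_eq]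
    refine mem_rootGen (r := 0) ?_ (coe_xg _ _ _)
    show 0 < D.nroots / 2
    have := X.top_lt; have := X.top_ne_zero; unfold top at *; omega
  have hone : xg X.hh 0 (z 1 0) = 1 := by
    have hb : xg X.hh 0 (z 1 0) ∈ D.borelSubgroup k := Subgroup.mem_sup_left h0
    have h : xg X.hh 0 (z 1 0) ∈ D.borelSubgroup k ⊓ D.negUnipotent k := Subgroup.mem_inf.2 ⟨hb, hn⟩
    rw [X.hh.borel_inf_negUnipotent] at h
    exact Subgroup.mem_bot.1 h
  exact hc (xg_injective X.hh X.nroots_pos (hone.trans (xg_zero X.hh 0).symm))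

theorem phi_ker {z : SL(2, k)} (hz : φ z = 1) : z = 1 ∨ z = -1 := by
  have hc := X.phi_lowerLeft hU hL hz
  let w : SL(2, k) := RankOneData.wElt
  have hb : z 0 1 = 0 := by
    have h1 := X.phi_lowerLeft hU hL (z := w * z * w⁻¹) (by simp [map_mul, map_inv, hz])
    simpa [w, RankOneData.mul_entry, RankOneData.wElt_entries, Matrix.SpecialLinearGroup.coe_inv,
      Matrix.adjugate_fin_two] using h1
  have hd := RankOneData.det_eq z
  rw [hc, hb] at hd
  have hconj : φ (z * RankOneData.upper 1) = φ (RankOneData.upper (z 0 0 ^ 2) * z) := by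
    congr 1
    refine RankOneData.sl_ext ?_ ?_ ?_ ?_ <;> simp [RankOneData.mul_entry, RankOneData.upper_entries, hc, hb]
    linear_combination -z 0 0 * hd
  rw [map_mul, map_mul, hz, one_mul, mul_one, hU, hU] at hconj
  have ha : z 0 0 ^ 2 = 1 := (xg_injective X.hh X.top_lt hconj).symm
  rcases sq_eq_one_iff.1 ha with e | e
  · left
    have : z 1 1 = 1 := by rw [e] at hd; linear_combination hd
    refine RankOneData.sl_ext ?_ ?_ ?_ ?_ <;> simp [e, hc, hb, this]
  · right
    have : z 1 1 = -1 := by rw [e] at hd; linear_combination -hd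
    refine RankOneData.sl_ext ?_ ?_ ?_ ?_ <;> simp [e, hc, hb, this]

theorem finite_order {u : GL D.Idx k} {M : SL(2, k)} (hM : φ M ∈ X.conjH u) : IsOfFinOrder M := by
  haveI := X.finite_conjH u
  obtain ⟨n, hn, e⟩ := (isOfFinOrder_of_finite (⟨φ M, hM⟩ : ↥(X.conjH u))).exists_pow_eq_one
  have e' : φ (M ^ n) = 1 := by rw [map_pow]; exact congrArg Subtype.val e
  refine isOfFinOrder_iff_pow_eq_one.2 ⟨n * 2, by omega, ?_⟩
  rw [pow_mul]
  rcases X.phi_ker hU hL e' with w | w <;> simp [w]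

/-- In odd characteristic `-1` lies in the rank one group. -/
theorem neg_one_mem (p : ℕ) [hp : Fact p.Prime] [CharP k p] (h2 : (2 : k) ≠ 0) {u : GL D.Idx k}
    (hu : u ∈ radical D C k) {c : k} (hc : c ≠ 0) (hcm : xg X.hh 0 c ∈ X.conjH u) :
    φ (-1) ∈ X.conjH u := by
  have hp2 : p ≠ 2 := fun e => h2 (by have := CharP.cast_eq_zero k p; rw [e] at this; exact_mod_cast this)
  have hUm : φ (RankOneData.upper 1) ∈ X.conjH u := by rw [hU]; exact (X.top_mem_conjH hu).2 X.one_mem_A
  have hLm : φ (RankOneData.lower c) ∈ X.conjH u := by rw [hL]; exact hcm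
  set M : SL(2, k) := RankOneData.upper 1 * RankOneData.lower c with hMdef
  have hM : φ M ∈ X.conjH u := by rw [hMdef, map_mul]; exact mul_mem hUm hLm
  have htr : M 0 0 + M 1 1 = 2 + c := by
    simp [hMdef, RankOneData.mul_entry, RankOneData.upper_entries, RankOneData.lower_entries]; ring
  -- the trace is algebraic over the prime field
  obtain ⟨n, hn, hn1⟩ := (X.finite_order hU hL hM).exists_pow_eq_one
  obtain ⟨a, b, hab, e⟩ := Finite.exists_ne_map_eq_of_infinite fun a : ℕ => (⟨p ^ a % n, Nat.mod_lt _ hn⟩ : Fin n)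
  wlog hlt : a < b generalizing a b
  · exact this b a hab.symm e.symm (by omega)
  simp only [Fin.mk.injEq] at e
  have epow : ∀ x : SL(2, k), x ^ n = 1 → x ^ p ^ a = x ^ p ^ b := fun x hx => by
    rw [← Nat.mod_add_div (p ^ a) n, ← Nat.mod_add_div (p ^ b) n, pow_add, pow_add, pow_mul, pow_mul, hx,
      one_pow, one_pow, e]
  have etr : (2 + c) ^ p ^ a = (2 + c) ^ p ^ b := by
    have e1 := trace_pow p M a
    rw [epow M hn1, epow M⁻¹ (by rw [inv_pow, hn1, inv_one]), trace_pow p M b, htr] at e1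
    simpa using (congrArg (fun A : Matrix (Fin 2) (Fin 2) k => A 0 0) e1).symm
  obtain ⟨m, rfl⟩ := Nat.exists_eq_add_of_lt hlt
  have hfix : (2 + c) ^ p ^ (m + 1) = 2 + c := by
    refine (iterateFrobenius k p a).injective ?_
    simp only [iterateFrobenius_def, ← pow_mul, ← pow_add]
    rw [show m + 1 + a = a + m + 1 by omega]
    exact etr.symm
  let E : Subfield k := RingHom.eqLocusField (iterateFrobenius k p (m + 1)) (RingHom.id k)
  have hmemE : ∀ x : k, x ∈ E ↔ x ^ p ^ (m + 1) = x := fun x => by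
    show iterateFrobenius k p (m + 1) x = x ↔ _
    rw [iterateFrobenius_def]
  haveI : Finite ↥E := by
    have hne : (Polynomial.X ^ p ^ (m + 1) - Polynomial.X : Polynomial k) ≠ 0 :=
      FiniteField.X_pow_card_pow_sub_X_ne_zero k (Nat.succ_ne_zero m) hp.out.one_lt
    refine (Set.Finite.subset (Polynomial.finite_setOf_isRoot hne) fun x hx => ?_).to_subtype
    simp [(hmemE x).1 hx]
  letI : Fintype ↥E := Fintype.ofFinite _
  haveI : CharP ↥E p := (RingHom.charP_iff E.subtype E.subtype.injective p).2 inferInstance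
  have hcE : c ∈ E := by
    have h2E : (2 : k) ∈ E := ofNat_mem E 2
    have : 2 + c ∈ E := (hmemE _).2 hfix
    simpa using E.sub_mem this h2E
  let ψ : SL(2, ↥E) →* SL(2, k) := Matrix.SpecialLinearGroup.map E.subtype
  let K : Subgroup SL(2, ↥E) := (X.conjH u).comap (φ.comp ψ)
  have eU : ψ (RankOneData.upper 1) = RankOneData.upper 1 := by
    refine RankOneData.sl_ext ?_ ?_ ?_ ?_ <;> rfl
  have eL : ψ (RankOneData.lower ⟨c, hcE⟩) = RankOneData.lower c := by
    refine RankOneData.sl_ext ?_ ?_ ?_ ?_ <;> rfl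
  have xK : RankOneData.upper 1 ∈ K := by show φ (ψ (RankOneData.upper 1)) ∈ X.conjH u; rw [eU]; exact hUm
  have yK : RankOneData.lower ⟨c, hcE⟩ ∈ K := by show φ (ψ (RankOneData.lower ⟨c, hcE⟩)) ∈ X.conjH u; rw [eL]; exact hLm
  have hcard : 1 < Nat.card (Sylow p ↥K) := by
    by_contra hle
    have hsub : Subsingleton (Sylow p ↥K) := Finite.card_le_one_iff_subsingleton.1 (not_lt.1 hle)
    obtain ⟨P⟩ : Nonempty (Sylow p ↥K) := inferInstance
    have hmem : ∀ z : ↥K, z ^ p = 1 → z ∈ (P : Subgroup ↥K) := by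
      intro z hz
      have hpg : IsPGroup p ↥(Subgroup.zpowers z) := by
        rintro ⟨w, hw⟩
        obtain ⟨i, rfl⟩ := Subgroup.mem_zpowers_iff.1 hw
        refine ⟨1, Subtype.ext ?_⟩
        rw [Subgroup.coe_pow, pow_one, ← zpow_natCast (z ^ i), ← zpow_mul, mul_comm, zpow_mul, zpow_natCast, hz,
          one_zpow]
        rfl
      obtain ⟨Q, hQ⟩ := hpg.exists_le_sylow
      rw [hsub.elim P Q]
      exact hQ (Subgroup.mem_zpowers z)
    have hupow : ∀ (t : ↥E), (RankOneData.upper t) ^ p = 1 ∧ (RankOneData.lower t) ^ p = 1 := by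
      intro t
      have key : ∀ j : ℕ, (RankOneData.upper t) ^ j = RankOneData.upper (j • t) ∧
          (RankOneData.lower t) ^ j = RankOneData.lower (j • t) := by
        intro j
        induction j with
        | zero =>
          constructor <;>
          refine RankOneData.sl_ext ?_ ?_ ?_ ?_ <;>
            simp [RankOneData.upper_entries, RankOneData.lower_entries]
        | succ j ih =>
          rw [pow_succ, pow_succ, ih.1, ih.2]
          constructor <;>
          refine RankOneData.sl_ext ?_ ?_ ?_ ?_ <;>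
            simp [RankOneData.mul_entry, RankOneData.upper_entries, RankOneData.lower_entries, add_mul, add_comm]
      rw [(key p).1, (key p).2, nsmul_eq_mul, CharP.cast_eq_zero, zero_mul]
      constructor <;>
      refine RankOneData.sl_ext ?_ ?_ ?_ ?_ <;> simp [RankOneData.upper_entries, RankOneData.lower_entries]
    have hz : (⟨_, xK⟩ * ⟨_, yK⟩ : ↥K) ∈ (P : Subgroup ↥K) :=
      mul_mem (hmem _ (Subtype.ext (hupow 1).1)) (hmem _ (Subtype.ext (hupow _).2))
    obtain ⟨j, hj⟩ := P.2 ⟨_, hz⟩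
    have hj' : M ^ p ^ j = 1 := by
      have h1 := congrArg (fun z => ψ z.1.1) hj
      simpa [eU, eL, hMdef] using h1
    have e1 := trace_pow p M j
    rw [hj', inv_pow, hj', inv_one, htr, add_pow_char_pow] at e1
    have e2 := congrArg (fun A : Matrix (Fin 2) (Fin 2) k => A 0 0) e1
    simp only [Matrix.SpecialLinearGroup.coe_one, Matrix.add_apply, Matrix.smul_apply, Matrix.one_apply_eq,
      smul_eq_mul, mul_one] at e2
    have h22 : (2 : k) ^ p ^ j = 2 := by
      have := map_ofNat (iterateFrobenius k p j) 2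
      rwa [iterateFrobenius_def] at this
    rw [h22, one_add_one_eq_two, left_eq_add] at e2
    exact hc (pow_eq_zero_iff (pow_ne_zero _ hp.out.ne_zero) |>.1 e2)
  obtain ⟨φ₀, hφ₀, hle⟩ := LinGroup.exists_sl_two_prime_le p hp2 K hcard
  have hz : φ (ψ (φ₀ (-1))) ∈ X.conjH u := hle ⟨-1, rfl⟩
  set z := ψ (φ₀ (-1)) with hzdef
  have hz2 : z * z = 1 := by
    rw [hzdef, ← map_mul, ← map_mul, show ((-1 : SL(2, ZMod p)) * -1) = 1 by simp, map_one, map_one]
  have hz1 : z ≠ 1 := by
    intro e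
    have h1 : φ₀ (-1) = 1 := by
      refine Matrix.SpecialLinearGroup.ext _ _ fun i j => E.subtype.injective ?_
      have := congrArg (fun z : SL(2, k) => z i j) e
      simpa [hzdef, ψ, Matrix.one_apply, apply_ite] using this
    have h3 : (-1 : SL(2, ZMod p)) = 1 := hφ₀ (h1.trans (map_one _).symm)
    have h4 := congrArg (fun z : SL(2, ZMod p) => z 0 0) h3
    simp only [Matrix.SpecialLinearGroup.coe_neg, Matrix.SpecialLinearGroup.coe_one, Matrix.neg_apply,
      Matrix.one_apply_eq] at h4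
    exact hp2 (ZMod.ringChar_zmod_n p ▸ (neg_one_eq_one_iff.1 h4))
  have e := coe_add_inv z
  rw [inv_eq_of_mul_eq_one_right hz2] at e
  have e00 := congrArg (fun A : Matrix (Fin 2) (Fin 2) k => A 0 0) e
  have e01 := congrArg (fun A : Matrix (Fin 2) (Fin 2) k => A 0 1) e
  have e10 := congrArg (fun A : Matrix (Fin 2) (Fin 2) k => A 1 0) e
  simp only [Matrix.add_apply, Matrix.smul_apply, Matrix.one_apply_eq, smul_eq_mul, mul_one,
    Matrix.one_apply_ne (show (0 : Fin 2) ≠ 1 by decide), Matrix.one_apply_ne (show (1 : Fin 2) ≠ 0 by decide),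
    mul_zero, ← two_mul, mul_eq_zero, h2, false_or] at e00 e01 e10
  have hd := RankOneData.det_eq z
  rw [e01, e10] at hd
  have he : z 1 1 = z 0 0 := by linear_combination -e00
  rw [he] at hd
  have : z = -1 := by
    rcases sq_eq_one_iff.1 (show z 0 0 ^ 2 = 1 by linear_combination hd) with w | w
    · exact absurd (RankOneData.sl_ext (by simp [w]) (by simp [e01]) (by simp [e10]) (by simp [he, w])) hz1
    · refine RankOneData.sl_ext ?_ ?_ ?_ ?_ <;> simp [w, e01, e10, he]
  rwa [this] at hz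

/-- In odd characteristic the shift lies in `A`. -/
theorem shift_mem (p : ℕ) [Fact p.Prime] [CharP k p] (h2 : (2 : k) ≠ 0) {u : GL D.Idx k}
    (hu : u ∈ radical D C k) {c : k} (hc : c ≠ 0) (hcm : xg X.hh 0 c ∈ X.conjH u) {w : ℕ} (hw : w ∈ S.wOne)
    (hpair : pairI D C (top D) w = 1) {s : k}
    (hs : ∀ a : k, u⁻¹ * xg X.hh w a * u = xg X.hh w a * xg X.hh (top D) (a * s)) : s ∈ X.A := by
  obtain ⟨hw1, -, hwn⟩ := X.wOne_spec hw
  have hm := X.wOne_mem_conjH hs (X.ones w hwn)
  rw [one_mul] at hm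
  have hn := X.neg_one_mem hU hL p h2 hu hc hcm
  have hc' : Commute (φ (-1)) (xg X.hh (top D) s) := by
    rw [← hU]; exact (Commute.neg_one_left (RankOneData.upper s)).map φ
  have hneg : φ (-1) * xg X.hh w 1 * (φ (-1))⁻¹ = xg X.hh w (-1) := by
    rw [← diagW_neg_one, X.phi_diag hU hL, hElem_conj X.hh hwn, hpair]; simp
  have h3 := mul_mem (mul_mem (mul_mem hn hm) (inv_mem hn)) hm
  rw [show φ (-1) * (xg X.hh w 1 * xg X.hh (top D) s) * (φ (-1))⁻¹ =
      φ (-1) * xg X.hh w 1 * (φ (-1))⁻¹ * (φ (-1) * xg X.hh (top D) s * (φ (-1))⁻¹) by group,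
    hneg, hc'.eq, mul_inv_cancel_right, mul_assoc, ← mul_assoc (xg X.hh (top D) s),
    ← (X.pos_comm_top hw1 hwn 1 s).eq, mul_assoc (xg X.hh w 1), ← mul_assoc, xg_add, neg_add_cancel, xg_zero,
    one_mul, xg_add, X.top_mem_conjH hu, ← two_mul] at h3
  exact X.half_mem h2 h3

end Ctx

end Cfsg.Agent.Lib.ChevOver
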