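import Cfsg.Agent.Lib.ChevOver.Frame

/-!
The lowest coordinate of the image of the highest root vector lies in `A`.
-/

set_option autoImplicit false

namespace Cfsg.Agent.Lib.ChevOver

open Cfsg.Lie Cfsg.Agent.Lib.Chev Cfsg.Agent.Lib.ChevField
open scoped Matrix MatrixGroups

variable {D : ChevalleyDatum} {C : Cert} {S : SubCert} {k : Type*} [Field k]

theorem intCast_odd [CharP k 2] {M : ℤ} (h : M % 2 = 1) : (M : k) = 1 := by
  rw [← Int.emod_add_mul_ediv M 2, h]
  push_cast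
  simp [CharTwo.two_eq_zero]

/-- The check together with the membership of the four roots among the roots of weight one. -/
structure PairAll (D : ChevalleyDatum) (C : Cert) (S : SubCert) (g d d' : ℕ) (M : ℤ) : Prop
    extends PairOK D C g d d' M where
  g_w : g ∈ S.wOne
  g'_w : ng D 1 ∈ S.wOne
  d_w : d ∈ S.wOne
  d'_w : d' ∈ S.wOne

namespace Ctx

variable (X : Ctx D C S k)
include X

/-- A pair of elements on the roots `g` and `1`. -/
def tau (g : ℕ) (a e : k) : GL D.Idx k := xg X.hh g a * xg X.hh 1 e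

section Pair

variable {g d d' : ℕ} {M : ℤ} (hp : PairAll D C S g d d' M)
include hp

theorem pair_lt : g < D.nroots ∧ d < D.nroots ∧ d' < D.nroots ∧ 1 < D.nroots ∧ 1 < top D :=
  have hT := X.top_lt
  have h1 : 1 < top D := by have := hp.g_lt; have := hp.g_ne; omega
  ⟨hp.g_lt.trans hT, hp.d_lt.trans hT, hp.d'_lt.trans hT, h1.trans hT, h1⟩

theorem comm_gT (a t : k) : Commute (xg X.hh g a) (xg X.hh (top D) t) :=
  X.pos_comm_top (X.wOne_spec hp.g_w).1 (X.pair_lt hp).1 a t

theorem comm_dT (a t : k) : Commute (xg X.hh d a) (xg X.hh (top D) t) :=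
  X.pos_comm_top (X.wOne_spec hp.d_w).1 (X.pair_lt hp).2.1 a t

theorem comm_d'T (a t : k) : Commute (xg X.hh d' a) (xg X.hh (top D) t) :=
  X.pos_comm_top (X.wOne_spec hp.d'_w).1 (X.pair_lt hp).2.2.1 a t

theorem comm_one_g (e a : k) : Commute (xg X.hh 1 e) (xg X.hh g a) :=
  xg_commute _ (X.pair_lt hp).2.2.2.1 (X.pair_lt hp).1 hp.g_ne.2.2 hp.one_g e a

theorem comm_one_zero (e a : k) : Commute (xg X.hh 1 e) (xg X.hh 0 a) :=
  xg_commute _ (X.pair_lt hp).2.2.2.1 X.nroots_pos (fun e1 => by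
    have := congrArg (ng D) e1
    rw [X.ng_zero, Checked.ng_ng (X.pair_lt hp).2.2.2.1] at this
    exact absurd this (by have := (X.pair_lt hp).2.2.2.2; omega)) hp.one_zero e a

theorem comm_one_d (e a : k) : Commute (xg X.hh 1 e) (xg X.hh d a) :=
  xg_commute _ (X.pair_lt hp).2.2.2.1 (X.pair_lt hp).2.1 hp.d_ne.2.2.2.2 hp.one_d e a

theorem comm_g_d (e a : k) : Commute (xg X.hh g e) (xg X.hh d a) :=
  xg_commute _ (X.pair_lt hp).1 (X.pair_lt hp).2.1 hp.d_ne.2.2.2.1 hp.gd e a

theorem comm_g_d' (e a : k) : Commute (xg X.hh g e) (xg X.hh d' a) :=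
  xg_commute _ (X.pair_lt hp).1 (X.pair_lt hp).2.2.1 hp.d'_ne.2.2 hp.gd' e a

theorem tau_add (a e a' e' : k) : X.tau g a e * X.tau g a' e' = X.tau g (a + a') (e + e') := by
  simp only [tau]
  rw [← xg_add, ← xg_add, mul_assoc, ← mul_assoc (xg X.hh 1 e), (X.comm_one_g hp e a').eq]
  simp only [mul_assoc]

theorem tau_zero : X.tau g 0 0 = 1 := by simp [tau, xg_zero]

theorem top_one (e t : k) :
    xg X.hh (top D) t * xg X.hh 1 e = xg X.hh g (t * e) * xg X.hh 1 e * xg X.hh (top D) t := by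
  obtain ⟨hg, hd, hd', h1, h1T⟩ := X.pair_lt hp
  have h := xg_comm_one X.hh X.top_lt h1 (by omega) (by rw [X.ng_top]; omega) hp.T1 t e
  rw [show ((1 : ℤ) : k) * (-t) ^ 1 * e ^ 1 = -(t * e) by simp, ← xg_inv] at h
  rw [mul_assoc, h, ← mul_assoc, ((X.comm_gT hp (t * e) t).mul_right (X.comm_one_g hp e (t * e)).symm).eq,
    mul_inv_cancel_right]

theorem g_zero (a t : k) :
    xg X.hh 0 t * xg X.hh g a = xg X.hh g a * xg X.hh 0 t * xg X.hh 1 (a * t) := by
  obtain ⟨hg, hd, hd', h1, h1T⟩ := X.pair_lt hp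
  rw [xg_comm_one X.hh hg X.nroots_pos (Ne.symm hp.g_ne.1) (fun e => by
    have := congrArg (ng D) e
    rw [X.ng_zero, Checked.ng_ng hg] at this
    exact absurd this (by have := hp.g_lt; omega)) hp.g0]
  congr 2; simp

theorem gp_g (a b : k) : xg X.hh (ng D 1) b * xg X.hh g a =
    xg X.hh g a * xg X.hh (ng D 1) b * xg X.hh (top D) (-(a * b)) := by
  obtain ⟨hg, hd, hd', h1, h1T⟩ := X.pair_lt hp
  rw [xg_comm_one X.hh hg (Checked.ng_lt h1) (Ne.symm hp.g_ne.2.2) (fun e => by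
    have := congrArg (ng D) e
    rw [Checked.ng_ng h1, Checked.ng_ng hg] at this
    exact hp.g_ne.2.1 this.symm) hp.gg']
  congr 2; simp

variable {u : GL D.Idx k} (hu : u ∈ radical D C k)
include hu

/-- An element on the root `g` in the conjugate has its argument in `A`. -/
theorem g_arg_mem {v : k} (hv : xg X.hh g v ∈ X.conjH u) : v ∈ X.A := by
  obtain ⟨hg, hd, hd', h1, h1T⟩ := X.pair_lt hp
  obtain ⟨s', hs'⟩ := X.exists_shift hu hp.g'_w
  have hE := X.wOne_mem_conjH hs' (X.ones _ (Checked.ng_lt h1))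
  rw [one_mul] at hE
  have e : xg X.hh (ng D 1) 1 * xg X.hh (top D) s' * xg X.hh g v =
      xg X.hh g v * (xg X.hh (ng D 1) 1 * xg X.hh (top D) s') * xg X.hh (top D) (-v) := by
    rw [mul_assoc, ← (X.comm_gT hp v s').eq, ← mul_assoc, X.gp_g hp, mul_one]
    simp only [mul_assoc, xg_add, add_comm]
  simpa using X.A.neg_mem ((X.top_mem_conjH hu).1 (mem_of_comm hv hE e))

/-- If the shift of `g` lies in `A`, so does the argument of the opposite root element. -/
theorem c_mem {c s : k} (hcm : xg X.hh 0 c ∈ X.conjH u)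
    (hs : ∀ a : k, u⁻¹ * xg X.hh g a * u = xg X.hh g a * xg X.hh (top D) (a * s)) (hsA : s ∈ X.A) : c ∈ X.A := by
  obtain ⟨hg, hd, hd', h1, h1T⟩ := X.pair_lt hp
  have hE := X.wOne_mem_conjH hs (X.ones g hg)
  rw [one_mul] at hE
  have hg1 : xg X.hh g 1 ∈ X.conjH u := by
    have := mul_mem hE (inv_mem ((X.top_mem_conjH hu).2 hsA))
    rwa [mul_inv_cancel_right] at this
  have h1c : xg X.hh 1 c ∈ X.conjH u := by
    have := mem_of_comm hg1 hcm (X.g_zero hp 1 c)
    rwa [one_mul] at this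
  have hgc : xg X.hh g (-c) ∈ X.conjH u := by
    refine mem_of_comm ((X.top_mem_conjH hu).2 X.one_mem_A) h1c (?_ :
      xg X.hh 1 c * xg X.hh (top D) 1 = _)
    rw [xg_comm_one X.hh X.top_lt h1 (by omega) (by rw [X.ng_top]; omega) hp.T1]
    simp
  simpa using X.A.neg_mem (X.g_arg_mem hp hu hgc)

section Two

variable [CharP k 2] (hmul : ∀ a ∈ X.A, ∀ b ∈ X.A, a * b ∈ X.A)
  {φ : SL(2, k) →* GL D.Idx k} (hU : ∀ t, φ (RankOneData.upper t) = xg X.hh (top D) t)
  (hL : ∀ t, φ (RankOneData.lower t) = xg X.hh 0 t)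
include hU hL hmul

omit hmul hu in
theorem phi_tau (h : SL(2, k)) : ∀ a e, φ h * X.tau g a e =
    X.tau g (h 0 0 * a + h 0 1 * e) (h 1 0 * a + h 1 1 * e) * φ h := by
  refine sl_induction (P := fun h : SL(2, k) => ∀ a e, φ h * X.tau g a e =
    X.tau g (h 0 0 * a + h 0 1 * e) (h 1 0 * a + h 1 1 * e) * φ h) ?_ ?_ ?_ h
  · intro t a e
    simp only [hU, RankOneData.upper_entries, one_mul, zero_mul, zero_add, tau]
    rw [← mul_assoc, ← (X.comm_gT hp a t).eq, mul_assoc, X.top_one hp, ← mul_assoc, ← mul_assoc, xg_add]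
  · intro t a e
    simp only [hL, RankOneData.lower_entries, one_mul, zero_mul, add_zero, tau]
    rw [← mul_assoc, X.g_zero hp, mul_assoc _ (xg X.hh 1 (a * t)), xg_add, mul_assoc (xg X.hh g a),
      ← (X.comm_one_zero hp _ t).eq, ← mul_assoc, mul_comm a t]
  · intro h h' ih ih' a e
    rw [map_mul, mul_assoc, ih', ← mul_assoc, ih, mul_assoc]
    simp only [RankOneData.mul_entry]
    congr 2 <;> ring

omit hmul hu hU hL in
theorem tau_eq_one {a e : k} (h : X.tau g a e = 1) : a = 0 ∧ e = 0 := by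
  have h' : xg X.hh g a * xg X.hh 1 e = 1 := h
  have h2 : xg X.hh g (1 * e) = 1 := by
    have e1 := X.top_one hp e 1
    have e2 : xg X.hh 1 e = (xg X.hh g a)⁻¹ := (inv_eq_of_mul_eq_one_right h').symm
    rw [e2, ((X.comm_gT hp a 1).inv_left).symm.eq, mul_assoc] at e1
    exact mul_eq_right.1 e1.symm
  have he : e = 0 := by
    have := xg_injective X.hh (X.pair_lt hp).1 (h2.trans (xg_zero X.hh g).symm)
    simpa using this
  subst he
  rw [xg_zero, mul_one] at h'
  exact ⟨xg_injective X.hh (X.pair_lt hp).1 (h'.trans (xg_zero X.hh g).symm), rfl⟩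

omit hmul hu in
theorem form_unique {a e a' e' : k} {h h' : SL(2, k)} (eq : X.tau g a e * φ h = X.tau g a' e' * φ h') :
    h = h' ∧ a = a' ∧ e = e' := by
  have hH : φ (h * h'⁻¹) = X.tau g (-a + a') (-e + e') := by
    rw [map_mul, map_inv, mul_inv_eq_iff_eq_mul, ← mul_left_cancel_iff (a := X.tau g a e), eq, ← mul_assoc,
      X.tau_add hp]
    congr 2 <;> ring
  have key : ∀ x y : k, (h * h'⁻¹) 0 0 * x + (h * h'⁻¹) 0 1 * y = x ∧
      (h * h'⁻¹) 1 0 * x + (h * h'⁻¹) 1 1 * y = y := by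
    intro x y
    have e1 := X.phi_tau hp hU hL (h * h'⁻¹) x y
    rw [hH, X.tau_add hp, X.tau_add hp] at e1
    have e2 := congrArg (fun z => z * X.tau g (a - a' - x) (e - e' - y)) e1.symm
    simp only [X.tau_add hp] at e2
    rw [show -a + a' + x + (a - a' - x) = 0 by ring, show -e + e' + y + (e - e' - y) = 0 by ring,
      X.tau_zero hp] at e2
    obtain ⟨p1, p2⟩ := X.tau_eq_one hp e2
    exact ⟨by linear_combination p1, by linear_combination p2⟩
  obtain ⟨p00, p10⟩ := key 1 0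
  obtain ⟨p01, p11⟩ := key 0 1
  simp only [mul_one, mul_zero, add_zero, zero_add] at p00 p10 p01 p11
  have hh1 : h * h'⁻¹ = 1 := by
    refine RankOneData.sl_ext ?_ ?_ ?_ ?_ <;> simp only [Matrix.SpecialLinearGroup.coe_one,
      Matrix.one_apply_eq, Matrix.one_apply_ne (show (0 : Fin 2) ≠ 1 by decide),
      Matrix.one_apply_ne (show (1 : Fin 2) ≠ 0 by decide)] <;> assumption
  rw [hh1, map_one] at hH
  obtain ⟨p1, p2⟩ := X.tau_eq_one hp hH.symm
  exact ⟨mul_inv_eq_one.1 hh1, by linear_combination -p1, by linear_combination -p2⟩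

/-- In characteristic two the shift of `g` lies in `A`. -/
theorem shift_two {c s : k} (hc : c ≠ 0) (hcm : xg X.hh 0 c ∈ X.conjH u)
    (hs : ∀ a : k, u⁻¹ * xg X.hh g a * u = xg X.hh g a * xg X.hh (top D) (a * s)) : s ∈ X.A := by
  obtain ⟨hg, hd, hd', h1, h1T⟩ := X.pair_lt hp
  by_contra hsA
  have hs0 : s ≠ 0 := fun e => hsA (e ▸ X.A.zero_mem)
  have hgA : ∀ v, xg X.hh g v ∈ X.conjH u → v = 0 := by
    intro v hv
    by_contra hv0
    have hvA := X.g_arg_mem hp hu hv
    have hE := X.wOne_mem_conjH hs ((X.long_mem_iff hg hp.g_long).2 hvA)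
    have hT := mul_mem (inv_mem hv) hE
    rw [inv_mul_cancel_left] at hT
    refine hsA ?_
    have := hmul _ ((X.field hmul).inv_mem hvA) _ ((X.top_mem_conjH hu).1 hT)
    rwa [inv_mul_cancel_left₀ hv0] at this
  have hW : ∀ a e, X.tau g a e ∈ X.conjH u → a = 0 ∧ e = 0 := by
    intro a e hae
    have hT1 := (X.top_mem_conjH hu).2 X.one_mem_A
    have hm := mul_mem (mul_mem hT1 hae) (inv_mem hT1)
    have e1 := X.phi_tau hp hU hL (RankOneData.upper 1) a e
    simp only [hU, RankOneData.upper_entries, one_mul, zero_mul, zero_add] at e1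
    rw [e1, mul_inv_cancel_right] at hm
    have hm2 := mul_mem hm hae
    rw [X.tau_add hp, show a + e + a = e by rw [add_comm a e, add_assoc, CharTwo.add_self_eq_zero, add_zero],
      CharTwo.add_self_eq_zero] at hm2
    have he : e = 0 := hgA e (by simpa [tau, xg_zero] using hm2)
    subst he
    exact ⟨hgA a (by simpa [tau, xg_zero] using hae), rfl⟩
  -- the three involutions
  set x := xg X.hh (top D) (1 : k) with hxdef
  set y := xg X.hh 0 c with hydef
  have hxm : x ∈ X.conjH u := (X.top_mem_conjH hu).2 X.one_mem_A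
  have hx2 : x * x = 1 := by rw [hxdef, xg_add, CharTwo.add_self_eq_zero, xg_zero]
  have hy2 : y * y = 1 := by rw [hydef, xg_add, CharTwo.add_self_eq_zero, xg_zero]
  set b := xg X.hh g 1 * xg X.hh (top D) s with hbdef
  have hbm : b ∈ X.conjH u := by
    have := X.wOne_mem_conjH hs (X.ones g hg)
    rwa [one_mul] at this
  have hbform : b = X.tau g 1 0 * φ (RankOneData.upper s) := by rw [hU]; simp [hbdef, tau, xg_zero]
  have hb2 : b * b = 1 := by
    rw [hbdef, mul_assoc, ← mul_assoc (xg X.hh (top D) s), ← (X.comm_gT hp 1 s).eq, mul_assoc, xg_add,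
      ← mul_assoc, xg_add, CharTwo.add_self_eq_zero, CharTwo.add_self_eq_zero, xg_zero, xg_zero, one_mul]
  obtain ⟨j, hj⟩ : ∃ j, (RankOneData.upper (1 : k) * RankOneData.lower c) ^ (2 * j + 1) = 1 := by
    refine odd_order_of_trace (X.finite_order hU hL (u := u) (by rw [map_mul, hU, hL]; exact mul_mem hxm hcm)) ?_
    simp [RankOneData.mul_entry, RankOneData.upper_entries, RankOneData.lower_entries, hc]
  have hxy : (x * y) ^ (2 * j + 1) = 1 := by
    have := congrArg φ hj
    rwa [map_pow, map_mul, hU, hL, map_one] at this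
  have hd1 := conj_involutions hx2 hy2 hxy
  set g₂ := RankOneData.upper s * RankOneData.lower c with hg₂
  have hby : b * y = X.tau g 1 0 * φ g₂ := by rw [hbform, hg₂, map_mul, mul_assoc, hydef, hL]
  have hform : ∀ n, ∃ a e, (b * y) ^ n = X.tau g a e * φ (g₂ ^ n) := by
    intro n
    induction n with
    | zero => exact ⟨0, 0, by simp [X.tau_zero hp]⟩
    | succ n ih =>
      obtain ⟨a, e, h⟩ := ih
      rw [pow_succ, h, hby, mul_assoc, ← mul_assoc (φ (g₂ ^ n)), X.phi_tau hp hU hL, mul_assoc, ← mul_assoc,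
        X.tau_add hp, ← map_mul, ← pow_succ]
      exact ⟨_, _, rfl⟩
  haveI := X.finite_conjH u
  have hbym : b * y ∈ X.conjH u := mul_mem hbm hcm
  obtain ⟨N, hN, hN1⟩ := (isOfFinOrder_of_finite (⟨b * y, hbym⟩ : ↥(X.conjH u))).exists_pow_eq_one
  have hg2 : IsOfFinOrder g₂ := by
    refine isOfFinOrder_iff_pow_eq_one.2 ⟨N, hN, ?_⟩
    obtain ⟨a, e, h⟩ := hform N
    have h' : (b * y) ^ N = 1 := congrArg Subtype.val hN1
    rw [h'] at h
    exact (X.form_unique hp hU hL (show X.tau g 0 0 * φ 1 = X.tau g a e * φ (g₂ ^ N) by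
      rw [X.tau_zero hp, map_one, one_mul]; exact h)).1.symm
  obtain ⟨i, hi⟩ := odd_order_of_trace hg2 (by
    simp [hg₂, RankOneData.mul_entry, RankOneData.upper_entries, RankOneData.lower_entries, hs0, hc])
  have hby1 : (b * y) ^ (2 * i + 1) = 1 := by
    obtain ⟨a, e, h⟩ := hform (2 * i + 1)
    rw [hi, map_one, mul_one] at h
    obtain ⟨ha, he⟩ := hW a e (h ▸ pow_mem hbym _)
    rw [h, ha, he, X.tau_zero hp]
  have hd2 := conj_involutions hy2 hb2 (j := i) (by
    rw [show y * b = y * (b * y) * y⁻¹ by group, conj_pow, hby1, mul_one, mul_inv_cancel])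
  set z := (y * b) ^ i * (x * y) ^ j with hzdef
  have hzm : z ∈ X.conjH u := mul_mem (pow_mem (mul_mem hcm hbm) _) (pow_mem (mul_mem hxm hcm) _)
  have hzx : z * x = b * z := by rw [hzdef, mul_assoc, hd1, ← mul_assoc, hd2, mul_assoc]
  -- `z` in normal form
  let Form : Submonoid (GL D.Idx k) :=
    { carrier := {w | ∃ a e h, w = X.tau g a e * φ h}
      one_mem' := ⟨0, 0, 1, by simp [X.tau_zero hp]⟩
      mul_mem' := by
        rintro _ _ ⟨a, e, h, rfl⟩ ⟨a', e', h', rfl⟩
        refine ⟨a + (h 0 0 * a' + h 0 1 * e'), e + (h 1 0 * a' + h 1 1 * e'), h * h', ?_⟩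
        rw [mul_assoc, ← mul_assoc (φ h), X.phi_tau hp hU hL, mul_assoc, ← mul_assoc, X.tau_add hp, map_mul] }
  have fx : x ∈ Form := ⟨0, 0, RankOneData.upper 1, by rw [X.tau_zero hp, one_mul, hU]⟩
  have fy : y ∈ Form := ⟨0, 0, RankOneData.lower c, by rw [X.tau_zero hp, one_mul, hL]⟩
  have fb : b ∈ Form := ⟨1, 0, _, hbform⟩
  obtain ⟨za, ze, h, hz⟩ : z ∈ Form :=
    mul_mem (pow_mem (mul_mem fy fb) _) (pow_mem (mul_mem fx fy) _)
  have heq : h * RankOneData.upper 1 = RankOneData.upper s * h := by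
    rw [hz, hbform, hxdef, ← hU, mul_assoc, ← map_mul, mul_assoc, ← mul_assoc (φ (RankOneData.upper s)),
      X.phi_tau hp hU hL, mul_assoc, ← mul_assoc, X.tau_add hp, ← map_mul] at hzx
    exact (X.form_unique hp hU hL hzx).1
  have e00 := congrArg (fun w : SL(2, k) => w 0 0) heq
  have e01 := congrArg (fun w : SL(2, k) => w 0 1) heq
  simp only [RankOneData.mul_entry, RankOneData.upper_entries, mul_one, mul_zero, add_zero, one_mul] at e00 e01
  have h10 : h 1 0 = 0 := (mul_eq_zero.1 (show s * h 1 0 = 0 by linear_combination -e00)).resolve_left hs0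
  have hdet := RankOneData.det_eq h
  rw [h10, mul_zero, sub_zero] at hdet
  have h00 : h 0 0 ≠ 0 := left_ne_zero_of_mul_eq_one hdet
  have hsq : h 0 0 * h 0 0 = s := by linear_combination h 0 0 * e01 + s * hdet
  set lam : kˣ := Units.mk0 (h 0 0) h00 with hlam
  have hdecomp : h = RankOneData.upper (h 0 1 * h 0 0) * diagW lam := by
    obtain ⟨q00, q01, q10, q11⟩ := diagW_entries lam
    have hl : (lam : k) = h 0 0 := rfl
    rw [hl] at q00 q11
    refine RankOneData.sl_ext ?_ ?_ ?_ ?_ <;>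
      simp only [RankOneData.mul_entry, RankOneData.upper_entries, q00, q01, q10, q11, h10]
    · ring
    · field_simp; ring
    · ring
    · rw [zero_mul, zero_add, one_mul]; exact eq_inv_of_mul_eq_one_right hdet
  -- conjugating the element on `d`
  obtain ⟨σ, hσ⟩ := X.exists_shift hu hp.d_w
  obtain ⟨σ', hσ'⟩ := X.exists_shift hu hp.d'_w
  have hEd := X.wOne_mem_conjH hσ (X.ones d hd)
  have hEd' := X.wOne_mem_conjH hσ' (X.ones d' hd')
  rw [one_mul] at hEd hEd'
  set lv : k := (lam : k) with hlv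
  set σ₁ := lv ^ 2 * σ with hσ₁
  have ha : φ h * (xg X.hh d 1 * xg X.hh (top D) σ) = xg X.hh d lv * xg X.hh (top D) σ₁ * φ h := by
    have c1 : φ (diagW lam) * xg X.hh d 1 = xg X.hh d lv * φ (diagW lam) := by
      rw [← mul_inv_eq_iff_eq_mul, X.phi_diag hU hL, hElem_conj X.hh hd, hp.pd, zpow_one, mul_one]
    have c2 : φ (diagW lam) * xg X.hh (top D) σ = xg X.hh (top D) σ₁ * φ (diagW lam) := by
      rw [← hU σ, ← map_mul, diagW_upper, map_mul, hU]
    rw [hdecomp, map_mul, hU, mul_assoc, ← mul_assoc (φ (diagW lam)), c1, mul_assoc _ (φ (diagW lam)), c2,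
      ← mul_assoc, ← mul_assoc, ← mul_assoc, ← (X.comm_dT hp lv _).eq]
    simp only [mul_assoc]
    congr 1
    rw [← mul_assoc, ← mul_assoc, xg_add, xg_add, add_comm]
  set Z := xg X.hh d lv * xg X.hh (top D) σ₁ * xg X.hh g (-(σ₁ * ze)) with hZ
  have hzZ : z * (xg X.hh d 1 * xg X.hh (top D) σ) = Z * z := by
    have c3 : xg X.hh 1 ze * xg X.hh (top D) σ₁ =
        xg X.hh (top D) σ₁ * xg X.hh g (-(σ₁ * ze)) * xg X.hh 1 ze := by
      rw [← xg_inv, ← ((X.comm_gT hp (σ₁ * ze) σ₁).inv_left).eq, mul_assoc _ (xg X.hh (top D) σ₁),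
        X.top_one hp]
      group
    have key : X.tau g za ze * (xg X.hh d lv * xg X.hh (top D) σ₁) = Z * X.tau g za ze := by
      calc X.tau g za ze * (xg X.hh d lv * xg X.hh (top D) σ₁)
          = xg X.hh g za * xg X.hh d lv * (xg X.hh 1 ze * xg X.hh (top D) σ₁) := by
            simp only [tau]
            rw [mul_assoc (xg X.hh g za), ← mul_assoc (xg X.hh 1 ze), (X.comm_one_d hp ze lv).eq]
            simp only [mul_assoc]
        _ = xg X.hh d lv * (xg X.hh g za * xg X.hh (top D) σ₁) * xg X.hh g (-(σ₁ * ze)) * xg X.hh 1 ze := by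
            rw [c3, (X.comm_g_d hp za lv).eq]; simp only [mul_assoc]
        _ = xg X.hh d lv * xg X.hh (top D) σ₁ * (xg X.hh g za * xg X.hh g (-(σ₁ * ze))) * xg X.hh 1 ze := by
            rw [(X.comm_gT hp za σ₁).eq]; simp only [mul_assoc]
        _ = _ := by
            rw [xg_add, add_comm za, ← xg_add, hZ]; simp only [tau, mul_assoc]
    rw [hz, mul_assoc, ha, ← mul_assoc, key, mul_assoc]
  have hZm : Z ∈ X.conjH u := by
    have := mul_mem (mul_mem hzm hEd) (inv_mem hzm)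
    rwa [hzZ, mul_inv_cancel_right] at this
  have hT : xg X.hh (top D) lv ∈ X.conjH u := by
    refine mem_of_comm hZm hEd' (?_ : xg X.hh d' 1 * xg X.hh (top D) σ' * Z = _)
    have c4 : xg X.hh d' 1 * xg X.hh d lv = xg X.hh d lv * xg X.hh d' 1 * xg X.hh (top D) lv := by
      rw [xg_comm_one X.hh hd hd' (Ne.symm hp.d'_ne.2.1) (fun e1 => hp.d_ne.2.2.1 (by
        rw [e1, Checked.ng_ng hd])) hp.dd', intCast_odd hp.odd]
      congr 2
      simp [CharTwo.neg_eq]
    set G' := xg X.hh g (-(σ₁ * ze))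
    have k1 : ∀ t : k, Commute (xg X.hh d' 1) (xg X.hh (top D) t) := fun t => X.comm_d'T hp 1 t
    have k2 : Commute (xg X.hh d' 1) G' := (X.comm_g_d' hp _ 1).symm
    have k3 : ∀ t : k, Commute (xg X.hh (top D) t) G' := fun t => (X.comm_gT hp _ t).symm
    have k4 : ∀ t t' : k, Commute (xg X.hh (top D) t) (xg X.hh (top D) t') := fun t t' => by
      show _ * _ = _ * _; rw [xg_add, xg_add, add_comm]
    have k5 : ∀ t : k, Commute (xg X.hh (top D) t) (xg X.hh d lv) := fun t => (X.comm_dT hp lv t).symm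
    calc xg X.hh d' 1 * xg X.hh (top D) σ' * Z
        = xg X.hh d' 1 * xg X.hh d lv * (xg X.hh (top D) σ₁ * G' * xg X.hh (top D) σ') := by
          rw [hZ, mul_assoc, (((k5 σ').mul_right (k4 σ' σ₁)).mul_right (k3 σ')).eq]
          simp only [mul_assoc]
      _ = xg X.hh d lv * xg X.hh d' 1 *
          (xg X.hh (top D) σ₁ * G' * xg X.hh (top D) σ' * xg X.hh (top D) lv) := by
          rw [c4, mul_assoc _ (xg X.hh (top D) lv),
            (((k4 lv σ₁).mul_right (k3 lv)).mul_right (k4 lv σ')).eq]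
      _ = _ := by
          rw [hZ]
          simp only [mul_assoc]
          rw [← mul_assoc (xg X.hh d' 1), (k1 σ₁).eq, mul_assoc, ← mul_assoc (xg X.hh d' 1), k2.eq, mul_assoc]
  refine hsA ?_
  rw [← hsq]
  exact hmul _ ((X.top_mem_conjH hu).1 hT) _ ((X.top_mem_conjH hu).1 hT)

end Two

end Pair

/-- The lowest coordinate, in the presence of two pairs of roots. -/
theorem low_pair {g d d' : ℕ} {M : ℤ} (hp : PairAll D C S g d d' M) (p : ℕ) [Fact p.Prime] [CharP k p]
    (hmul : ∀ a ∈ X.A, ∀ b ∈ X.A, a * b ∈ X.A) : ∀ z ∈ X.H, co (z.val *ᵥ bv D k (top D)) 0 ∈ X.A := by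
  intro z hz
  by_cases hc : co (z.val *ᵥ bv D k (top D)) 0 = 0
  · rw [hc]; exact X.A.zero_mem
  obtain ⟨u, hu, hcm⟩ := X.exists_radical_conj hz hc
  obtain ⟨φ, hU, hL⟩ := X.exists_phi
  obtain ⟨s, hs⟩ := X.exists_shift hu hp.g_w
  refine X.c_mem hp hu hcm hs ?_
  by_cases h2 : (2 : k) = 0
  · haveI : CharP k 2 := CharTwo.of_one_ne_zero_of_two_eq_zero one_ne_zero h2
    exact X.shift_two hp hu hmul hU hL hc hcm hs
  · exact X.shift_mem hU hL p h2 hu hc hcm hp.g_w hp.pg hs

end Ctx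

section B2

variable (X : Ctx chevB2 B2.cert subB2 k)
include X

theorem b2_radical_comm [CharP k 2] {u : GL chevB2.Idx k} (hu : u ∈ radical chevB2 B2.cert k) {w : ℕ}
    (hw : w = 5 ∨ w = 6 ∨ w = 7) (t : k) : Commute u (xg X.hh w t) := by
  have hsame : ∀ r, ∀ a b : k, Commute (xg X.hh r a) (xg X.hh r b) := fun r a b => by
    show _ * _ = _ * _; rw [xg_add, xg_add, add_comm]
  have c56 : ∀ a b : k, Commute (xg X.hh 6 a) (xg X.hh 5 b) := fun a b => by
    show _ * _ = _ * _
    rw [xg_comm_one X.hh (r := 6) (s := 5) (a := 7) (M := -2) (i := 1) (j := 1) (by decide) (by decide) (by decide)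
      (by decide) (by decide +kernel)]
    simp [CharTwo.two_eq_zero, xg_zero]
  have c57 : ∀ a b : k, Commute (xg X.hh 5 a) (xg X.hh 7 b) :=
    xg_commute _ (by decide) (by decide) (by decide) (by decide +kernel)
  have c67 : ∀ a b : k, Commute (xg X.hh 6 a) (xg X.hh 7 b) := b2_comm67 X
  induction hu using Subgroup.closure_induction with
  | mem u hu =>
    obtain ⟨r, τ, ⟨hr, hq⟩, e⟩ := hu
    rw [show u = xg X.hh r τ from Units.ext (by rw [coe_xg]; exact e)]
    have hmem : ∀ r < 8, qIn chevB2 B2.cert r = true → r = 5 ∨ r = 6 ∨ r = 7 := by decide +kernel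
    rcases hmem r hr.2 hq with rfl | rfl | rfl <;> rcases hw with rfl | rfl | rfl
    exacts [hsame _ _ _, (c56 _ _).symm, c57 _ _, c56 _ _, hsame _ _ _, c67 _ _, (c57 _ _).symm, (c67 _ _).symm,
      hsame _ _ _]
  | one => exact Commute.one_left _
  | mul a b _ _ ha hb => exact ha.mul_left hb
  | inv a _ ha => exact ha.inv_left

theorem low_B2 (p : ℕ) [Fact p.Prime] [CharP k p] :
    ∀ z ∈ X.H, co (z.val *ᵥ bv chevB2 k (top chevB2)) 0 ∈ X.A := by
  intro z hz
  have hmul := mul_closed_B2 X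
  have hsh := shorts_B2 X
  by_cases hc : co (z.val *ᵥ bv chevB2 k (top chevB2)) 0 = 0
  · rw [hc]; exact X.A.zero_mem
  obtain ⟨u, hu, hcm⟩ := X.exists_radical_conj hz hc
  set c := co (z.val *ᵥ bv chevB2 k (top chevB2)) 0
  obtain ⟨φ, hU, hL⟩ := X.exists_phi
  have htop : top chevB2 = 7 := rfl
  have hw : ∀ w, w = 5 ∨ w = 6 → ∀ a ∈ X.A, xg X.hh w a ∈ X.conjH u := by
    intro w hw a ha
    have hwn : w < chevB2.nroots := by show w < 8; omega
    by_cases h2 : (2 : k) = 0
    · haveI : CharP k 2 := CharTwo.of_one_ne_zero_of_two_eq_zero one_ne_zero h2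
      rw [X.mem_conjH, (b2_radical_comm X hu (by omega) a).eq, mul_inv_cancel_right]
      exact hsh w hwn a ha
    · have hwm : w ∈ subB2.wOne := by rcases hw with rfl | rfl <;> decide
      obtain ⟨s, hs⟩ := X.exists_shift hu hwm
      have hsA : s ∈ X.A := X.shift_mem hU hL p h2 hu hc hcm hwm
        (by rcases hw with rfl | rfl <;> decide +kernel) hs
      have := mul_mem (X.wOne_mem_conjH hs (hsh w hwn a ha))
        (inv_mem ((X.top_mem_conjH hu).2 (hmul a ha s hsA)))
      rwa [mul_inv_cancel_right] at this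
  have h1 := X.one_mem_A
  have hT1 : xg X.hh 7 1 ∈ X.conjH u := (X.top_mem_conjH hu).2 h1
  have c64 : ∀ a b : k, Commute (xg X.hh 4 a) (xg X.hh 6 b) :=
    xg_commute _ (by decide) (by decide) (by decide) (by decide +kernel)
  have c47 : ∀ a b : k, Commute (xg X.hh 4 a) (xg X.hh 7 b) :=
    xg_commute _ (by decide) (by decide) (by decide) (by decide +kernel)
  have c67 : ∀ a b : k, Commute (xg X.hh 6 a) (xg X.hh 7 b) :=
    xg_commute _ (by decide) (by decide) (by decide) (by decide +kernel)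
  have c57 : ∀ a b : k, Commute (xg X.hh 5 a) (xg X.hh 7 b) :=
    xg_commute _ (by decide) (by decide) (by decide) (by decide +kernel)
  have e65 : ∀ a : k, xg X.hh 5 1 * xg X.hh 6 a = xg X.hh 6 a * xg X.hh 5 1 * xg X.hh 7 (2 * a) := fun a => by
    rw [xg_comm_one X.hh (r := 6) (s := 5) (a := 7) (M := -2) (i := 1) (j := 1) (by decide) (by decide) (by decide)
      (by decide) (by decide +kernel)]
    simp
  have hE : xg X.hh 2 (-c) * xg X.hh 4 c ∈ X.conjH u := by
    refine mem_of_comm (hw 6 (Or.inr rfl) 1 h1) hcm ?_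
    rw [xg_comm X.hh (r := 6) (s := 0) (by decide) (by decide) (by decide) (by decide)
      (l := [(2, 1, 1, 1), (4, 1, 2, 1)]) (by decide +kernel)]
    simp
  have hE1 : xg X.hh 6 (-c) * xg X.hh 4 (c ^ 2) ∈ X.conjH u := by
    refine mem_of_comm hT1 hE ?_
    rw [mul_assoc, (c47 c 1).eq, ← mul_assoc, xg_comm X.hh (r := 7) (s := 2) (by decide) (by decide) (by decide)
      (by decide) (l := [(6, -1, 1, 1), (4, -1, 1, 2)]) (by decide +kernel)]
    simp only [List.map_cons, List.map_nil, List.prod_cons, List.prod_nil, mul_one, Int.cast_neg, Int.cast_one,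
      pow_one, neg_mul_neg, one_mul, neg_sq]
    rw [mul_assoc _ (_ * _) (xg X.hh 4 c), ← ((c64 c (-c)).mul_right
      (show Commute (xg X.hh 4 c) (xg X.hh 4 (c ^ 2)) by show _ * _ = _ * _; rw [xg_add, xg_add, add_comm])).eq]
    simp only [mul_assoc]
  have h5 := hw 5 (Or.inl rfl) 1 h1
  have hE2 : xg X.hh 6 (-c ^ 2) * xg X.hh 7 (c ^ 2 - 2 * c) ∈ X.conjH u := by
    refine mem_of_comm hE1 h5 ?_
    rw [← mul_assoc, e65, mul_assoc _ (xg X.hh 7 _) _, ← (c47 (c ^ 2) _).eq, ← mul_assoc,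
      mul_assoc (xg X.hh 6 (-c)) (xg X.hh 5 1), b2_comm45 X, mul_one, one_pow, mul_one]
    simp only [mul_assoc]
    rw [xg_add, show c ^ 2 + 2 * -c = c ^ 2 - 2 * c by ring]
  by_cases h2 : (2 : k) = 0
  · haveI : CharP k 2 := CharTwo.of_one_ne_zero_of_two_eq_zero one_ne_zero h2
    rw [h2, zero_mul, sub_zero, CharTwo.neg_eq, X.mem_conjH,
      ((b2_radical_comm X hu (Or.inr (Or.inl rfl)) _).mul_right
        (b2_radical_comm X hu (Or.inr (Or.inr rfl)) _)).eq, mul_inv_cancel_right] at hE2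
    set x := c ^ 2
    have hw1 : x - x ^ 2 ∈ X.A := b2_key X hE2
    have hw2 : x ^ 2 * (x - x ^ 2) ∈ X.A := by
      have := b2_key X (b2_prod X hE2)
      convert this using 1; ring
    have hx : x ∈ X.A := by
      by_cases h0 : x - x ^ 2 = 0
      · rcases mul_eq_zero.1 (show x * (1 - x) = 0 by linear_combination h0) with e | e
        · rw [e]; exact X.A.zero_mem
        · rw [← sub_eq_zero.1 e]; exact h1
      · have h3 := hmul _ hw2 _ ((X.field hmul).inv_mem hw1)
        rw [mul_inv_cancel_right₀ h0] at h3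
        obtain ⟨t, ht, e⟩ := b2_sq_surj X h3
        rw [← CharTwo.sq_injective e]; exact ht
    obtain ⟨t, ht, e⟩ := b2_sq_surj X hx
    rw [← CharTwo.sq_injective e]; exact ht
  · have hsq : c ^ 2 ∈ X.A := by
      refine X.half_mem h2 ?_
      have h7 : xg X.hh 7 (2 * -c ^ 2) ∈ X.conjH u := by
        refine mem_of_comm hE2 h5 ?_
        rw [← mul_assoc, e65, mul_assoc _ (xg X.hh 7 (2 * -c ^ 2)), xg_add, add_comm, ← xg_add, ← mul_assoc,
          mul_assoc _ (xg X.hh 5 1), (c57 1 _).eq]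
        simp only [mul_assoc]
      have := X.A.neg_mem ((X.top_mem_conjH hu).1 h7)
      convert this using 1; ring
    refine X.half_mem h2 ?_
    have h6 := hw 6 (Or.inr rfl) _ (X.A.neg_mem hsq)
    have h7 := mul_mem (inv_mem h6) hE2
    rw [inv_mul_cancel_left] at h7
    have := X.A.sub_mem hsq ((X.top_mem_conjH hu).1 h7)
    convert this using 1; ring

end B2

end Cfsg.Agent.Lib.ChevOver
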