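import Cfsg.Agent.Lib.ChevOver.Fixed

/-!
A finite subgroup of an exceptional or small-rank Chevalley group containing every `x_r(1)` is defined over a
finite field, all of whose root elements it contains.
-/

set_option autoImplicit false

namespace Cfsg.Agent.Lib.ChevOver

open Cfsg.Lie Cfsg.Agent.Lib.Chev Cfsg.Agent.Lib.ChevField
open scoped Matrix

variable {k : Type*} [Field k]

namespace Ctx

variable {D : ChevalleyDatum} {C : Cert} {S : SubCert}

/-- `A` is the fixed field of a power of Frobenius and it controls `H`. -/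
def FieldBound (X : Ctx D C S k) (p : ℕ) : Prop :=
  ∃ n, 1 ≤ n ∧ (∀ (s : ℕ) (t : k), t ^ p ^ n = t → xg X.hh s t ∈ X.H) ∧
    ∀ g ∈ X.H, ∀ i j, (g.val i j) ^ p ^ n = g.val i j

theorem fieldBound (X : Ctx D C S k) (p : ℕ) [hp : Fact p.Prime] [CharP k p]
    (hmul : ∀ a ∈ X.A, ∀ b ∈ X.A, a * b ∈ X.A) (hshort : ∀ r < D.nroots, ∀ t ∈ X.A, xg X.hh r t ∈ X.H)
    (hlow : ∀ g ∈ X.H, co (g.val *ᵥ bv D k (top D)) 0 ∈ X.A) (hneg : chkNegLong D C = true) :
    X.FieldBound p := by
  set F := X.field hmul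
  haveI : Finite ↥F := X.finite_A.to_subtype
  letI : Fintype ↥F := Fintype.ofFinite _
  haveI : CharP ↥F p := (RingHom.charP_iff F.subtype F.subtype.injective p).2 inferInstance
  obtain ⟨n, -, hn⟩ := FiniteField.card ↥F p
  set q := p ^ (n : ℕ) with hq
  have hfix : ∀ x : k, x ^ q = x ↔ x ∈ X.A := by
    have hsub : (X.A : Set k) ⊆ {x : k | x ^ q = x} := fun x hx => by
      have := FiniteField.pow_card (⟨x, hx⟩ : ↥F)
      rw [hn] at this
      exact congrArg Subtype.val this
    have hne : (Polynomial.X ^ q - Polynomial.X : Polynomial k) ≠ 0 :=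
      FiniteField.X_pow_card_pow_sub_X_ne_zero k n.ne_zero hp.out.one_lt
    classical
    have hroots : {x : k | x ^ q = x} = ↑(Polynomial.X ^ q - Polynomial.X : Polynomial k).roots.toFinset := by
      ext x
      simp [Polynomial.mem_roots hne, sub_eq_zero, hne]
    have hcard : {x : k | x ^ q = x}.ncard ≤ (X.A : Set k).ncard := by
      rw [hroots, Set.ncard_coe_finset]
      refine (Multiset.toFinset_card_le _).trans ((Polynomial.card_roots' _).trans ?_)
      rw [FiniteField.X_pow_card_pow_sub_X_natDegree_eq k n.ne_zero hp.out.one_lt, ← hq, ← hn, ← Nat.card_eq_fintype_card]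
      rfl
    have heq := Set.eq_of_subset_of_ncard_le hsub hcard (by rw [hroots]; exact Finset.finite_toSet _)
    exact fun x => (Set.ext_iff.1 heq x).symm
  refine ⟨n, n.pos, fun s t ht => ?_, fun g hg i j => ?_⟩
  · by_cases hs : s < D.nroots
    · exact hshort s hs t ((hfix t).1 ht)
    · simp [xg, hs]
  · exact (hfix _).2 (X.entries_mem (σ := iterateFrobenius k p n)
      (fun x => by rw [iterateFrobenius_def]; exact hfix x) hlow hneg hg i j)

/-- The case of two orthogonal pairs of long roots. -/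
theorem fieldBound_pair (X : Ctx D C S k) (p : ℕ) [Fact p.Prime] [CharP k p] {g d d' : ℕ} {M : ℤ}
    (hp : PairAll D C S g d d' M)
    (hshort : (∀ a ∈ X.A, ∀ b ∈ X.A, a * b ∈ X.A) → ∀ r < D.nroots, ∀ t ∈ X.A, xg X.hh r t ∈ X.H)
    (hneg : chkNegLong D C = true) : X.FieldBound p :=
  have hmul := X.mul_closed_pair hp.toPairOK
  X.fieldBound p hmul (hshort hmul) (X.low_pair hp p hmul) hneg

end Ctx

theorem negLong_G2 : chkNegLong chevG2 G2.cert = true := by decide +kernel

theorem negLong_B2 : chkNegLong chevB2 B2.cert = true := by decide +kernel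

theorem negLong_D4 : chkNegLong chevD4 D4.cert = true := by decide +kernel

theorem negLong_F4 : chkNegLong chevF4 F4.cert = true := by decide +kernel

theorem negLong_E6 : chkNegLong chevE6 E6.cert = true := by decide +kernel

theorem negLong_E7 : chkNegLong chevE7 E7.cert = true := by decide +kernel

theorem negLong_E8 : chkNegLong chevE8 E8.cert = true := by decide +kernel

/-- A finite subgroup containing every `x_r(1)`. -/
theorem exists_field_bound (p : ℕ) [Fact p.Prime] [CharP k p] {D : ChevalleyDatum}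
    (hD : D ∈ [chevG2, chevB2, chevD4, chevF4, chevE6, chevE7, chevE8]) (H : Subgroup (GL D.Idx k))
    (hfin : Finite ↥H) (hle : H ≤ D.group k)
    (h1 : ∀ (g : GL D.Idx k) (r : ℕ), (g : Matrix D.Idx D.Idx k) = D.x k r 1 → g ∈ H) :
    ∃ n, 1 ≤ n ∧ (∀ (g : GL D.Idx k) (s : ℕ) (t : k), t ^ p ^ n = t →
        (g : Matrix D.Idx D.Idx k) = D.x k s t → g ∈ H) ∧
      ∀ g ∈ H, ∀ i j : D.Idx, ((g : Matrix D.Idx D.Idx k) i j) ^ p ^ n = (g : Matrix D.Idx D.Idx k) i j := by
  have fin : ∀ {C : Cert} {S : SubCert} (hh : Rooted D C) (he : Twisted.chkEtaSigns D C = true)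
      (hok : SubOK D C S),
      (∀ X : Ctx D C S k, X.FieldBound p) →
      ∃ n, 1 ≤ n ∧ (∀ (g : GL D.Idx k) (s : ℕ) (t : k), t ^ p ^ n = t →
          (g : Matrix D.Idx D.Idx k) = D.x k s t → g ∈ H) ∧
        ∀ g ∈ H, ∀ i j : D.Idx, ((g : Matrix D.Idx D.Idx k) i j) ^ p ^ n = (g : Matrix D.Idx D.Idx k) i j := by
    intro C S hh he hok hb
    obtain ⟨n, hn, h2, h3⟩ := hb ⟨hh, he, hok, H, hfin, hle, fun r _ => h1 _ r (coe_xg hh r 1)⟩
    exact ⟨n, hn, fun g s t ht e => (Units.ext (e.trans (coe_xg hh s t).symm) : g = xg hh s t) ▸ h2 s t ht, h3⟩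
  simp only [List.mem_cons, List.not_mem_nil, or_false] at hD
  rcases hD with rfl | rfl | rfl | rfl | rfl | rfl | rfl
  · exact fin rooted_G2 Twisted.etaSigns_G2 subOK_G2 fun X => X.fieldBound_pair p
      (⟨pairOK_of_chk pair_G2, by decide, by decide, by decide, by decide⟩ : PairAll _ _ _ 6 8 9 3)
      (shorts_G2 X) negLong_G2
  · exact fin rooted_B2 Twisted.etaSigns_B2 subOK_B2 fun X =>
      X.fieldBound p (mul_closed_B2 X) (shorts_B2 X) (low_B2 X p) negLong_B2
  · exact fin (Rooted.mk checked_D4 descent_D4) Twisted.etaSigns_D4 subOK_D4 fun X => X.fieldBound_pair p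
      (⟨pairOK_of_chk pair_D4, by decide, by decide, by decide, by decide⟩ : PairAll _ _ _ 14 15 21 (-1))
      (fun _ => shorts_noSub X) negLong_D4
  · exact fin (Rooted.mk checked_F4 descent_F4) Twisted.etaSigns_F4 subOK_F4 fun X => X.fieldBound_pair p
      (⟨pairOK_of_chk pair_F4, by decide, by decide, by decide, by decide⟩ : PairAll _ _ _ 24 26 45 1)
      (fun _ => shorts_F4 X) negLong_F4
  · exact fin (Rooted.mk checked_E6 descent_E6) Twisted.etaSigns_E6 subOK_E6 fun X => X.fieldBound_pair p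
      (⟨pairOK_of_chk pair_E6, by decide, by decide, by decide, by decide⟩ : PairAll _ _ _ 46 47 69 (-1))
      (fun _ => shorts_noSub X) negLong_E6
  · exact fin (Rooted.mk checked_E7 descent_E7) Twisted.etaSigns_E7 subOK_E7 fun X => X.fieldBound_pair p
      (⟨pairOK_of_chk pair_E7, by decide, by decide, by decide, by decide⟩ : PairAll _ _ _ 93 94 123 (-1))
      (fun _ => shorts_noSub X) negLong_E7
  · exact fin (Rooted.mk checked_E8 descent_E8) Twisted.etaSigns_E8 subOK_E8 fun X => X.fieldBound_pair p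
      (⟨pairOK_of_chk pair_E8, by decide, by decide, by decide, by decide⟩ : PairAll _ _ _ 120 122 237 1)
      (fun _ => shorts_noSub X) negLong_E8

end Cfsg.Agent.Lib.ChevOver
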